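import Cfsg.Agent.Walter.FieldAut.Defs
import Cfsg.Agent.Walter.FieldAut.Cover.Extension

/-!
# A non-scalar action on a torus gives a cover

Section 4 of `docs/walter_26b_helper13.md`: with `q² - q + 1 ≡ 0` modulo `|C|`, the maps
`δ(c) = y c y⁻¹ / c^(q⁴)` and `y c y⁻¹ / c^(q²)` multiply to zero; if neither vanishes on the
`p`-part, `C` has eigenfunctionals for both eigenvalues, the form they define is invariant under
the normalizer, and the corestricted cup product gives a perfect central extension.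
-/

set_option autoImplicit false

open Subgroup

namespace CfsgLib.Walter.FieldAut

universe u

namespace CoverAux

/-- Homomorphisms to `Z/p` detect non-`p`-th powers. -/
theorem exists_hom {C : Type u} [CommGroup C] {p : ℕ} [Fact p.Prime] {d : C}
    (hd : ∀ k : C, k ^ p ≠ d) : ∃ h : C →* Multiplicative (ZMod p), h d ≠ 1 := by
  let P : Subgroup C := (powMonoidHom p).range
  have : Module (ZMod p) (Additive (C ⧸ P)) := AddCommGroup.zmodModule fun z =>
    Additive.toMul.injective (by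
      rw [toMul_nsmul]
      obtain ⟨x, hx⟩ := QuotientGroup.mk_surjective z.toMul
      rw [← hx, ← QuotientGroup.mk_pow]
      exact (QuotientGroup.eq_one_iff _).2 ⟨x, rfl⟩)
  have hne : Additive.ofMul (d : C ⧸ P) ≠ 0 := fun e => by
    obtain ⟨k, hk⟩ := (QuotientGroup.eq_one_iff (N := P) d).1 (congrArg Additive.toMul e)
    exact hd k hk
  obtain ⟨φ, hφ⟩ : ∃ φ : Module.Dual (ZMod p) (Additive (C ⧸ P)),
      φ (Additive.ofMul (d : C ⧸ P)) ≠ 0 := by
    by_contra hall
    push Not at hall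
    exact hne ((Module.forall_dual_apply_eq_zero_iff (ZMod p) _).1 hall)
  exact ⟨(AddMonoidHom.toMultiplicativeRight φ.toAddMonoidHom).comp (QuotientGroup.mk' P),
    fun e => hφ (congrArg Multiplicative.toAdd e)⟩

/-- A map which is a unit on its image is seen by some functional. -/
theorem exists_hom_comp {C : Type u} [CommGroup C] [Finite C] {p : ℕ} [Fact p.Prime]
    (D : C →* C) (u : ℤ) (hu : ¬ (p : ℤ) ∣ u) (hD : ∀ c, D (D c) = D c ^ u)
    {c₀ : C} (hc₀ : D c₀ ≠ 1) {k₀ : ℕ} (hk₀ : c₀ ^ p ^ k₀ = 1) :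
    ∃ (h : C →* Multiplicative (ZMod p)) (c : C), h (D c) ≠ 1 := by
  have hp : p.Prime := Fact.out
  by_contra hno
  push Not at hno
  have hpow : ∀ c, ∃ k, k ^ p = D c := fun c => by
    by_contra hc
    push Not at hc
    obtain ⟨h, hh⟩ := exists_hom hc
    exact hh (hno h c)
  obtain ⟨d, hddef⟩ : ∃ d, d = D c₀ := ⟨_, rfl⟩
  have hd : d ^ p ^ k₀ = 1 := by rw [hddef, ← map_pow, hk₀, map_one]
  have key : ∀ n, ∃ k : C, k ^ p ^ n = d := by
    intro n
    induction n with
    | zero => exact ⟨d, by simp⟩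
    | succ n ih =>
      obtain ⟨k, hk⟩ := ih
      obtain ⟨j, hj⟩ := hpow k
      have h1 : d ^ u = j ^ p ^ (n + 1) := by
        calc d ^ u = D d := by rw [hddef, hD]
          _ = D (k ^ p ^ n) := by rw [hk]
          _ = j ^ p ^ (n + 1) := by rw [map_pow, ← hj, ← pow_mul, ← pow_succ']
      obtain ⟨v, w, hvw⟩ : IsCoprime u ((p : ℤ) ^ k₀) :=
        ((((Nat.prime_iff_prime_int.1 hp).coprime_iff_not_dvd).2 hu).symm).pow_right
      refine ⟨j ^ v, ?_⟩
      rw [← zpow_natCast, ← zpow_mul, mul_comm, zpow_mul, zpow_natCast, ← h1, ← zpow_mul, mul_comm u]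
      have hdk : d ^ ((p : ℤ) ^ k₀) = 1 := by
        rw [← Nat.cast_pow, zpow_natCast, hd]
      conv_rhs => rw [← zpow_one d, ← hvw, zpow_add, mul_comm w, zpow_mul d ((p : ℤ) ^ k₀), hdk,
        one_zpow, mul_one]
  obtain ⟨a, b, hb, hab⟩ :=
    Nat.exists_eq_pow_mul_and_not_dvd (Nat.card_pos (α := C)).ne' p hp.ne_one
  obtain ⟨k, hk⟩ := key a
  have hdb : d ^ b = 1 := by rw [← hk, ← pow_mul, ← hab, pow_card_eq_one']
  apply hc₀
  rw [← hddef, ← orderOf_eq_one_iff]
  exact Nat.eq_one_of_dvd_coprimes ((Nat.Coprime.pow_left k₀ ((hp.coprime_iff_not_dvd).2 hb)))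
    (orderOf_dvd_of_pow_eq_one hd) (orderOf_dvd_of_pow_eq_one hdb)

end CoverAux

open CoverAux in
theorem coverThm : CoverThm.{u} := by
  intro J _ _ p m hJ C hC y hy hN hrel hns
  classical
  haveI : Fact p.Prime := ⟨hJ.prime⟩
  haveI : NeZero p := ⟨hJ.prime.ne_zero⟩
  letI := Fintype.ofFinite (J ⧸ C)
  letI : CommGroup C :=
    { (inferInstance : Group C) with mul_comm := fun a b => Subtype.ext (hC.comm a a.2 b b.2) }
  obtain ⟨q, hq⟩ : ∃ q, q = 3 ^ (2 * m + 1) := ⟨_, rfl⟩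
  have hdvd : Nat.card C ∣ q ^ 2 - q + 1 := by rw [hq]; exact hC.card_dvd
  have hQ : ∀ n : ℕ, n ∣ q ^ 2 - q + 1 → (q : ZMod n) ^ 2 - q + 1 = 0 := fun n hn => by
    have h := (ZMod.natCast_eq_zero_iff _ n).2 hn
    rwa [Nat.cast_add, Nat.cast_sub (Nat.le_self_pow two_ne_zero q), Nat.cast_pow, Nat.cast_one] at h
  have hQC := hQ _ hdvd
  have hQp := hQ p (hC.dvd_card.trans hdvd)
  have hpowN : ∀ (c : C) (n k : ℕ), (n : ZMod (Nat.card C)) = k → c ^ n = c ^ k := fun c n k e => by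
    rw [pow_eq_pow_iff_modEq]
    exact ((ZMod.natCast_eq_natCast_iff _ _ _).1 e).of_dvd (orderOf_dvd_natCard c)
  -- the action of `y`
  let A : C →* C :=
    { toFun := fun c => ⟨y * c * y⁻¹, (mem_normalizer_iff.1 hN _).1 c.2⟩
      map_one' := Subtype.ext (by simp)
      map_mul' := fun a b => Subtype.ext (by simp [mul_assoc]) }
  have hA : ∀ c, A (A c) * A c * c = 1 := fun c => Subtype.ext (hrel c c.2)
  let D₁ : C →* C := A / powMonoidHom (q ^ 4)
  let D₂ : C →* C := A / powMonoidHom (q ^ 2)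
  have hD₁ : ∀ c, D₁ c = A c / c ^ (q ^ 4) := fun c => rfl
  have hD₂ : ∀ c, D₂ c = A c / c ^ (q ^ 2) := fun c => rfl
  have h12 : ∀ c, D₁ (D₂ c) = 1 := fun c => by
    have e1 : c ^ (q ^ 2 * q ^ 4) = c := by
      refine (hpowN c _ 1 ?_).trans (pow_one c)
      push_cast
      linear_combination ((q : ZMod (Nat.card C)) + 1) * ((q : ZMod (Nat.card C)) ^ 3 - 1) * hQC
    have e2 : A c ^ (q ^ 4) * A c ^ (q ^ 2) = (A c)⁻¹ := by
      rw [← pow_add]
      refine eq_inv_of_mul_eq_one_left ?_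
      rw [← pow_succ]
      refine (hpowN _ _ 0 ?_).trans (pow_zero _)
      push_cast
      linear_combination ((q : ZMod (Nat.card C)) ^ 2 + q + 1) * hQC
    rw [hD₁, hD₂, map_div, map_pow, div_pow, ← pow_mul, e1, div_div_div_eq, mul_comm (A c ^ _) (A c ^ _),
      e2, div_inv_eq_mul, mul_right_comm]
    exact hA c
  have h21 : ∀ c, D₂ (D₁ c) = 1 := fun c => by
    rw [← h12 c]
    simp only [hD₁, hD₂, map_div, map_pow, div_pow, ← pow_mul]
    rw [mul_comm (q ^ 4) (q ^ 2)]
    simp only [div_div_div_eq]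
    rw [mul_comm (A c ^ (q ^ 4)), mul_comm (A c ^ (q ^ 2))]
  have hAD₁ : ∀ c, A (D₁ c) = D₁ c ^ (q ^ 2) := fun c => div_eq_one.1 ((hD₂ _).symm.trans (h21 c))
  have hAD₂ : ∀ c, A (D₂ c) = D₂ c ^ (q ^ 4) := fun c => div_eq_one.1 ((hD₁ _).symm.trans (h12 c))
  -- the eigenvalues differ
  have hu : ¬ (p : ℤ) ∣ ((q : ℤ) ^ 4 - (q : ℤ) ^ 2) := fun hd => by
    have h := (ZMod.intCast_zmod_eq_zero_iff_dvd _ p).2 hd
    push_cast at h
    have h2 : 2 * (q : ZMod p) - 1 = 0 := by
      linear_combination -h + ((q : ZMod p) ^ 2 + q - 1) * hQp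
    have h3 : ((3 : ℕ) : ZMod p) = 0 := by
      push_cast
      linear_combination 4 * hQp - (2 * (q : ZMod p) - 1) * h2
    have := Nat.le_of_dvd (by norm_num) ((ZMod.natCast_eq_zero_iff _ _).1 h3)
    have := hJ.five_le
    omega
  have hu' : ¬ (p : ℤ) ∣ ((q : ℤ) ^ 2 - (q : ℤ) ^ 4) := fun hd => hu (by
    rw [← neg_sub]; exact hd.neg_right)
  have hns' : ∀ s : ℕ, ∃ c : C, (∃ k, c ^ p ^ k = 1) ∧ A c / c ^ s ≠ 1 := fun s => by
    obtain ⟨c, hc, ⟨k, hk⟩, hne⟩ := hns s
    refine ⟨⟨c, hc⟩, ⟨k, Subtype.ext (by simp [← hk, pow_orderOf_eq_one])⟩, fun e => hne ?_⟩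
    exact congrArg Subtype.val (div_eq_one.1 e)
  obtain ⟨c₁, ⟨k₁, hk₁⟩, hc₁⟩ := hns' (q ^ 4)
  obtain ⟨c₂, ⟨k₂, hk₂⟩, hc₂⟩ := hns' (q ^ 2)
  have hD11 : ∀ c, D₁ (D₁ c) = D₁ c ^ ((q : ℤ) ^ 2 - (q : ℤ) ^ 4) := fun c => by
    rw [hD₁ (D₁ c), hAD₁, zpow_sub, ← Nat.cast_pow, ← Nat.cast_pow, zpow_natCast, zpow_natCast,
      div_eq_mul_inv]
  have hD22 : ∀ c, D₂ (D₂ c) = D₂ c ^ ((q : ℤ) ^ 4 - (q : ℤ) ^ 2) := fun c => by
    rw [hD₂ (D₂ c), hAD₂, zpow_sub, ← Nat.cast_pow, ← Nat.cast_pow, zpow_natCast, zpow_natCast,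
      div_eq_mul_inv]
  obtain ⟨hh₁, a₀, ha₀⟩ := exists_hom_comp D₂ _ hu hD22 hc₂ hk₂
  obtain ⟨hh₂, b₀, hb₀⟩ := exists_hom_comp D₁ _ hu' hD11 hc₁ hk₁
  -- the eigenfunctionals
  let f₁ := hh₁.comp D₂
  let f₂ := hh₂.comp D₁
  have hf₁ : ∀ c, (f₁ (A c)).toAdd = (q : ZMod p) ^ 4 * (f₁ c).toAdd := fun c => by
    have e : f₁ (A c / c ^ q ^ 4) = 1 := by
      show hh₁ (D₂ (D₁ c)) = 1
      rw [h21, map_one]
    rw [map_div, map_pow, div_eq_one] at e
    rw [e, toAdd_pow, nsmul_eq_mul, Nat.cast_pow]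
  have hf₂ : ∀ c, (f₂ (A c)).toAdd = (q : ZMod p) ^ 2 * (f₂ c).toAdd := fun c => by
    have e : f₂ (A c / c ^ q ^ 2) = 1 := by
      show hh₂ (D₁ (D₂ c)) = 1
      rw [h12, map_one]
    rw [map_div, map_pow, div_eq_one] at e
    rw [e, toAdd_pow, nsmul_eq_mul, Nat.cast_pow]
  have huz : (q : ZMod p) ^ 4 - (q : ZMod p) ^ 2 ≠ 0 := fun e => hu
    ((ZMod.intCast_zmod_eq_zero_iff_dvd _ p).1 (by push_cast; exact e))
  -- the form is not zero
  have hβne : beta C p f₁ f₂ (D₂ a₀) b₀ ≠ 0 := by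
    have e2 : (f₂ (D₂ a₀)).toAdd = 0 := by
      show (hh₂ (D₁ (D₂ a₀))).toAdd = 0
      rw [h12, map_one]; rfl
    have e1 : (f₁ (D₂ a₀)).toAdd = ((q : ZMod p) ^ 4 - (q : ZMod p) ^ 2) * (f₁ a₀).toAdd := by
      rw [hD₂, map_div, map_pow, toAdd_div, toAdd_pow, hf₁, nsmul_eq_mul, Nat.cast_pow, sub_mul]
    rw [beta, e2, mul_zero, sub_zero, e1]
    refine mul_ne_zero (mul_ne_zero huz fun e => ha₀ ?_) fun e => hb₀ ?_
    · exact Multiplicative.toAdd.injective e
    · exact Multiplicative.toAdd.injective e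
  -- invariance under the normalizer
  let M : Subgroup J :=
    { carrier := {n | n ∈ normalizer (C : Set J) ∧ ∀ a b a' b' : C, (a' : J) = n⁻¹ * a * n →
        (b' : J) = n⁻¹ * b * n → beta C p f₁ f₂ a' b' = beta C p f₁ f₂ a b}
      one_mem' := ⟨one_mem _, fun a b a' b' ha hb => by
        rw [show a' = a from Subtype.ext (by simpa using ha), show b' = b from Subtype.ext (by simpa using hb)]⟩
      mul_mem' := by
        rintro n n' ⟨hn, h1⟩ ⟨hn', h2⟩
        refine ⟨mul_mem hn hn', fun a b a' b' ha hb => ?_⟩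
        let a₁ : C := ⟨n⁻¹ * a * n, by simpa using (mem_normalizer_iff.1 (inv_mem hn) _).1 a.2⟩
        let b₁ : C := ⟨n⁻¹ * b * n, by simpa using (mem_normalizer_iff.1 (inv_mem hn) _).1 b.2⟩
        rw [← h1 a b a₁ b₁ rfl rfl]
        exact h2 a₁ b₁ a' b' (by rw [ha]; simp [a₁, mul_assoc]) (by rw [hb]; simp [b₁, mul_assoc])
      inv_mem' := by
        rintro n ⟨hn, h1⟩
        refine ⟨inv_mem hn, fun a b a' b' ha hb => ?_⟩
        exact (h1 a' b' a b (by rw [ha]; group) (by rw [hb]; group)).symm }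
  have hCM : C ≤ M := fun n hn => ⟨le_normalizer hn, fun a b a' b' ha hb => by
    rw [show a' = a from Subtype.ext (by
          rw [ha, mul_assoc, (hC.comm a a.2 n hn).eq, inv_mul_cancel_left]),
      show b' = b from Subtype.ext (by
          rw [hb, mul_assoc, (hC.comm b b.2 n hn).eq, inv_mul_cancel_left])]⟩
  have hq6 : (q : ZMod p) ^ 4 * (q : ZMod p) ^ 2 = 1 := by
    linear_combination ((q : ZMod p) + 1) * ((q : ZMod p) ^ 3 - 1) * hQp
  have hyM : y ∈ M := by
    have : y⁻¹ ∈ M := ⟨inv_mem hN, fun a b a' b' ha hb => by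
      rw [show a' = A a from Subtype.ext (by rw [ha, inv_inv]; rfl),
        show b' = A b from Subtype.ext (by rw [hb, inv_inv]; rfl), beta, beta, hf₁, hf₁, hf₂, hf₂]
      linear_combination ((f₁ a).toAdd * (f₂ b).toAdd - (f₁ b).toAdd * (f₂ a).toAdd) * hq6⟩
    simpa using inv_mem this
  obtain ⟨i, hi, hinv⟩ := hC.inverter
  have hi2 : i⁻¹ = i := inv_eq_of_mul_eq_one_right (by rw [← pow_two, ← hi, pow_orderOf_eq_one])
  have hiN : i ∈ normalizer (C : Set J) := mem_normalizer_iff.2 fun c => by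
    constructor
    · intro hc; rw [hinv c hc]; exact inv_mem hc
    · intro hc
      have h := hinv _ hc
      rw [hi2] at h
      have hii : i * i = 1 := by rw [← pow_two, ← hi, pow_orderOf_eq_one]
      have e : i * (i * c * i) * i = c := by
        rw [show i * (i * c * i) * i = (i * i) * c * (i * i) by group, hii, one_mul, mul_one]
      rw [e] at h
      rw [h]; exact inv_mem (by rwa [hi2] at hc)
  have hiM : i ∈ M := ⟨hiN, fun a b a' b' ha hb => by
    rw [show a' = a⁻¹ from Subtype.ext (by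
          rw [ha, hi2]; have := hinv a a.2; rwa [hi2] at this),
      show b' = b⁻¹ from Subtype.ext (by
          rw [hb, hi2]; have := hinv b b.2; rwa [hi2] at this)]
    simp [beta]⟩
  -- an element of order `p`
  obtain ⟨x, hx⟩ := exists_prime_orderOf_dvd_card' p hC.dvd_card
  have hx' : (x : J) ≠ 1 := fun e => by
    rw [show x = 1 from Subtype.ext e, orderOf_one] at hx
    exact hJ.prime.ne_one hx.symm
  have hyC : y ∉ C := fun hyC => by
    have e := hrel x x.2
    rw [(hC.comm y hyC x x.2).eq, mul_inv_cancel_right, (hC.comm y hyC x x.2).eq, mul_inv_cancel_right] at e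
    have h3 : orderOf x ∣ 3 := orderOf_dvd_of_pow_eq_one (Subtype.ext (by simpa [pow_succ] using e))
    have := Nat.le_of_dvd (by norm_num) h3
    have := hJ.five_le
    omega
  have hiC : i ∉ C := fun hiC => by
    have e := hinv x x.2
    rw [(hC.comm i hiC x x.2).eq, mul_inv_cancel_right] at e
    have e' : x * x = 1 := by
      apply Subtype.ext
      show (x : J) * x = 1
      nth_rewrite 2 [e]
      exact mul_inv_cancel _
    have h2 : orderOf x ∣ 2 := orderOf_dvd_of_pow_eq_one (by rw [pow_two, e'])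
    have := Nat.le_of_dvd (by norm_num) h2
    have := hJ.five_le
    omega
  have hMN : M ≤ normalizer (C : Set J) := fun n hn => hn.1
  haveI : (C.subgroupOf M).Normal := (normal_subgroupOf_iff_le_normalizer hCM).2 hMN
  have hdiv : ∀ (r : ℕ), r.Prime → ∀ z (hz : z ∈ M), orderOf z = r → z ∉ C → r ∣ C.relIndex M := by
    intro r hr z hz hzo hzC
    have h1 : orderOf (QuotientGroup.mk' (C.subgroupOf M) ⟨z, hz⟩) ∣ r :=
      (orderOf_map_dvd _ _).trans (by rw [← Subgroup.orderOf_coe]; exact hzo ▸ dvd_rfl)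
    rcases (Nat.dvd_prime hr).1 h1 with h | h
    · exact absurd ((QuotientGroup.eq_one_iff _).1 (orderOf_eq_one_iff.1 h)) hzC
    · have h2 := orderOf_dvd_natCard (QuotientGroup.mk' (C.subgroupOf M) ⟨z, hz⟩)
      rw [h] at h2
      exact h2
  have hMeq : normalizer (C : Set J) ≤ M := by
    rw [← relIndex_eq_one]
    have h6 := relIndex_mul_relIndex C M _ hCM hMN
    rw [hC.normalizer_index] at h6
    have h2 := hdiv 2 Nat.prime_two i hiM hi hiC
    have h3 := hdiv 3 Nat.prime_three y hyM hy hyC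
    have h6' : 6 ∣ C.relIndex M := Nat.Coprime.mul_dvd_of_dvd_of_dvd (by norm_num : Nat.Coprime 2 3) h2 h3
    obtain ⟨t, ht⟩ := h6'
    rw [ht, mul_assoc] at h6
    have h1 : t * M.relIndex (normalizer (C : Set J)) = 1 := by
      have h' : 6 * (t * M.relIndex (normalizer (C : Set J))) = 6 * 1 := by rw [h6]
      exact Nat.eq_of_mul_eq_mul_left (by norm_num) h'
    exact Nat.eq_one_of_mul_eq_one_left h1
  -- free orbits
  have hfixN : ∀ (g : J), (∃ a : C, a ≠ 1 ∧ g⁻¹ * a * g ∈ C) → g ∈ normalizer (C : Set J) := by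
    rintro g ⟨a, ha, hag⟩
    have hne : g⁻¹ * (a : J) * g ≠ 1 := fun e => ha (Subtype.ext (by
      rw [show (a : J) = g * (g⁻¹ * (a : J) * g) * g⁻¹ by group, e]; simp))
    rw [mem_normalizer_iff_map_conj_eq]
    refine eq_of_le_of_card_ge ?_ (card_map_of_injective (f := (MulAut.conj g).toMonoidHom)
      (MulAut.conj g).injective).ge
    rintro _ ⟨d, hd, rfl⟩
    rw [← hC.cent a a.2 fun e => ha (Subtype.ext e), mem_centralizer_singleton_iff]
    have h := (hC.comm _ hd _ hag).map (MulAut.conj g)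
    have e : MulAut.conj g (g⁻¹ * (a : J) * g) = (a : J) := by rw [MulAut.conj_apply]; group
    rw [e] at h
    exact h.eq
  have hfixed : ∀ g : J, (∀ d : C, d • (g : J ⧸ C) = g) ↔ g ∈ normalizer (C : Set J) := fun g => by
    constructor
    · intro h
      refine hfixN g ⟨x, fun e => hx' (congrArg Subtype.val e), ?_⟩
      have := QuotientGroup.eq.1 (h x).symm
      simpa [mul_assoc] using this
    · intro h d
      refine (QuotientGroup.eq.2 ?_).symm
      have := (mem_normalizer_iff.1 (inv_mem h) _).1 d.2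
      simpa [mul_assoc] using this
  have hfree : ∀ (a : C) (z : J ⧸ C), a • z = z → a = 1 ∨ ∀ b : C, b • z = z := by
    intro a z haz
    obtain ⟨g, rfl⟩ := QuotientGroup.mk_surjective z
    by_cases ha : a = 1
    · exact Or.inl ha
    refine Or.inr ((hfixed g).2 (hfixN g ⟨a, ha, ?_⟩))
    have := QuotientGroup.eq.1 haz.symm
    simpa [mul_assoc] using this
  have hcount : Nat.card {z : J ⧸ C // ∀ d : C, d • z = z} = 6 := by
    rw [← hC.normalizer_index]
    refine (Nat.card_congr (Equiv.ofBijective (fun n : normalizer (C : Set J) ⧸ C.subgroupOf _ =>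
      (⟨Quotient.map' (fun n : normalizer (C : Set J) => (n : J)) (fun a b h => by
        rw [QuotientGroup.leftRel_apply] at h ⊢; exact h) n, ?_⟩ :
          {z : J ⧸ C // ∀ d : C, d • z = z})) ⟨?_, ?_⟩)).symm
    · induction n using QuotientGroup.induction_on with
      | _ n => exact (hfixed n).2 n.2
    · intro a b
      induction a using QuotientGroup.induction_on with
      | _ a =>
        induction b using QuotientGroup.induction_on with
        | _ b =>
          intro e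
          have e' : ((a : J) : J ⧸ C) = ((b : J) : J ⧸ C) := congrArg Subtype.val e
          have e'' : (a : J)⁻¹ * (b : J) ∈ C := QuotientGroup.eq.1 e'
          exact QuotientGroup.eq.2 (mem_subgroupOf.2 e'')
    · rintro ⟨z, hz⟩
      obtain ⟨g, rfl⟩ := QuotientGroup.mk_surjective z
      exact ⟨((⟨g, (hfixed g).1 hz⟩ : normalizer (C : Set J)) : _ ⧸ C.subgroupOf _), rfl⟩
  -- the commutator
  have hk := kappa_sub C p f₁ f₂ hfree (D₂ a₀) b₀ (beta C p f₁ f₂ (D₂ a₀) b₀) fun z hz => by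
    have hzN : sec C z ∈ normalizer (C : Set J) := (hfixed _).1 fun d => by rw [sec_mk]; exact hz d
    have hv : ∀ d : C, (coc C (d : J) z : J) = (sec C z)⁻¹ * d * sec C z := fun d => by
      rw [coe_coc]
      have hd : (d : J) • z = z := hz d
      rw [hd]
    exact (hMeq hzN).2 _ _ _ _ (hv _) (hv _)
  have hne : kappa C p f₁ f₂ (D₂ a₀) b₀ - kappa C p f₁ f₂ b₀ (D₂ a₀) ≠ 0 := by
    rw [hk, hcount]
    refine mul_ne_zero (fun e => ?_) hβne
    have h6 := (ZMod.natCast_eq_zero_iff _ _).1 e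
    have := hJ.five_le
    have := Nat.le_of_dvd (by norm_num) h6
    have h56 : p = 5 ∨ p = 6 := by omega
    rcases h56 with h56 | h56
    · rw [h56] at h6; norm_num at h6
    · have := hJ.prime; rw [h56] at this; norm_num at this
  have hperf : commutator J = ⊤ := by
    haveI := hJ.simple
    have hn : (commutator J).Normal := inferInstance
    rcases hn.eq_bot_or_eq_top with h | h
    · exfalso
      have hcm : Commute y x := by
        have hm := Subgroup.commutator_mem_commutator (mem_top y) (mem_top (x : J))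
        rw [← _root_.commutator_def, h, mem_bot] at hm
        exact commutatorElement_eq_one_iff_commute.1 hm
      have := hC.cent x x.2 hx'
      exact hyC (this ▸ mem_centralizer_singleton_iff.2 hcm.eq)
    · exact h
  exact ⟨Ext C p f₁ f₂, inferInstance, inferInstance, proj C p f₁ f₂, proj_surjective C p f₁ f₂,
    ker_le_center C p f₁ f₂, card_ker C p f₁ f₂,
    perfect C p f₁ f₂ hperf (hC.comm _ (D₂ a₀).2 _ b₀.2) hne⟩

end CfsgLib.Walter.FieldAut
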