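import Cfsg.Agent.Walter.Main

/-!
# Walter, no field automorphisms in centralizers: interfaces

With trivial cores, `C(z) = (⟨z⟩ × L) Φ`; suppose `φ ∈ Φ` has prime order `p`.  The proof produces a
`LocalData G p` (an abelian `p`-subgroup `A` of `C(φ)` with an element `y` acting on it by a power
`s`, `s² ≢ 1`) and refutes it by Glauberman's `ZJ` theorem and transfer.  In the Ree case the data
come from the tori (`TorusThm`), the power map from `ScalarThm`, which rests on `CoverThm` (a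
non-scalar action gives a cover) and `NoCoverThm` (there is none).
-/

set_option autoImplicit false

open Subgroup

namespace CfsgLib.Walter.FieldAut

universe u

/-- The local configuration at a prime `p`. -/
structure LocalData (G : Type u) [Group G] (p : ℕ) where
  /-- An element of order `p` in a field automorphism group. -/
  φ : G
  /-- A generator of its Sylow subgroup. -/
  ψ : G
  /-- The element acting on `A`. -/
  y : G
  /-- The torus part. -/
  A : Subgroup G
  /-- The power by which `y` acts. -/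
  s : ℕ
  prime : p.Prime
  five_le : 5 ≤ p
  φ_ord : orderOf φ = p
  φ_mem : φ ∈ zpowers ψ
  ψ_pow : ∃ k, orderOf ψ = p ^ k
  norm_φ : ∀ g : G, g * φ * g⁻¹ ∈ zpowers φ → Commute g φ
  A_ne : A ≠ ⊥
  A_pGroup : IsPGroup p A
  A_comm : ∀ a ∈ A, ∀ b ∈ A, Commute a b
  A_disjoint : A ⊓ zpowers ψ = ⊥
  A_le : A ≤ centralizer ({φ} : Set G)
  ψ_norm : ∀ a ∈ A, ψ * a * ψ⁻¹ ∈ A
  sylow : ∀ X : Subgroup G, IsPGroup p X → A ⊔ zpowers ψ ≤ X → X ≤ centralizer ({φ} : Set G) →
    X = A ⊔ zpowers ψ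
  y_odd : Odd (orderOf y)
  y_coprime : ¬ p ∣ orderOf y
  y_ψ : Commute y ψ
  y_act : ∀ a ∈ A, y * a * y⁻¹ = a ^ s
  s_sq : (s : ZMod p) ^ 2 ≠ 1
  inv_cyclic : ∀ j : G, orderOf j = 2 → ∀ X : Subgroup G, X ≤ centralizer ({j} : Set G) →
    IsPGroup p X → IsCyclic X
  inv_conj : ∀ j : G, orderOf j = 2 → ∀ x ∈ centralizer ({j} : Set G), orderOf x = p →
    ∃ (g : G) (k : ℕ), x = g * φ ^ k * g⁻¹

/-- A simple group of Ree order with a prime dividing `q² - q + 1`. -/
structure ReeHyp (J : Type u) [Group J] (p m : ℕ) : Prop where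
  simple : IsSimpleGroup J
  twoType : TwoType J
  one_le : 1 ≤ m
  prime : p.Prime
  five_le : 5 ≤ p
  dvd : p ∣ (3 ^ (2 * m + 1)) ^ 2 - 3 ^ (2 * m + 1) + 1
  cent : ∀ t : J, orderOf t = 2 →
    ∃ (F : Type) (_ : Field F) (_ : Fintype F), Fintype.card F = 3 ^ (2 * m + 1) ∧
      Nonempty (centralizer ({t} : Set J) ≃*
        Multiplicative (ZMod 2) × Matrix.ProjectiveSpecialLinearGroup (Fin 2) F)
  card : Nat.card J =
    (3 ^ (2 * m + 1)) ^ 3 * ((3 ^ (2 * m + 1)) ^ 3 + 1) * (3 ^ (2 * m + 1) - 1)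

/-- A torus containing a Sylow `p`-subgroup, with its normalizer. -/
structure Torus {J : Type u} [Group J] (p m : ℕ) (C : Subgroup J) : Prop where
  ne_bot : C ≠ ⊥
  comm : ∀ a ∈ C, ∀ b ∈ C, Commute a b
  card_dvd : Nat.card C ∣ (3 ^ (2 * m + 1)) ^ 2 - 3 ^ (2 * m + 1) + 1
  dvd_card : p ∣ Nat.card C
  index_coprime : ¬ p ∣ C.index
  cent : ∀ c ∈ C, c ≠ 1 → centralizer ({c} : Set J) = C
  normalizer_index : C.relIndex (normalizer (C : Set J)) = 6
  inverter : ∃ i : J, orderOf i = 2 ∧ ∀ c ∈ C, i * c * i⁻¹ = c⁻¹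
  three : ∀ i : J, orderOf i = 2 → (∀ c ∈ C, i * c * i⁻¹ = c⁻¹) →
    ∃ y : J, orderOf y = 3 ∧ Commute y i ∧ y ∈ normalizer (C : Set J) ∧
      ∀ c ∈ C, y * (y * c * y⁻¹) * y⁻¹ * (y * c * y⁻¹) * c = 1

/-- Tori exist. -/
def TorusThm : Prop :=
  ∀ {J : Type u} [Group J] [Finite J] (p m : ℕ), ReeHyp J p m →
    ∀ x : J, orderOf x = p → ∃ C : Subgroup J, Torus p m C ∧ x ∈ C

/-- An element of order three of the normalizer acts on the `p`-elements of a torus by a power. -/
def ScalarThm : Prop :=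
  ∀ {J : Type u} [Group J] [Finite J] (p m : ℕ), ReeHyp J p m → ∀ C : Subgroup J, Torus p m C →
    ∀ y : J, orderOf y = 3 → y ∈ normalizer (C : Set J) →
      (∀ c ∈ C, y * (y * c * y⁻¹) * y⁻¹ * (y * c * y⁻¹) * c = 1) →
      ∃ s : ℕ, ∀ c ∈ C, (∃ k, orderOf c = p ^ k) → y * c * y⁻¹ = c ^ s

/-- A perfect cover with kernel of order `p`. -/
structure Cover (J : Type u) [Group J] (p : ℕ) (R : Type u) [Group R] (π : R →* J) : Prop where
  surjective : Function.Surjective π
  central : π.ker ≤ Subgroup.center R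
  card_ker : Nat.card π.ker = p
  perfect : commutator R = ⊤

/-- A non-scalar action gives a cover. -/
def CoverThm : Prop :=
  ∀ {J : Type u} [Group J] [Finite J] (p m : ℕ), ReeHyp J p m → ∀ C : Subgroup J, Torus p m C →
    ∀ y : J, orderOf y = 3 → y ∈ normalizer (C : Set J) →
      (∀ c ∈ C, y * (y * c * y⁻¹) * y⁻¹ * (y * c * y⁻¹) * c = 1) →
      (∀ s : ℕ, ∃ c ∈ C, (∃ k, orderOf c = p ^ k) ∧ y * c * y⁻¹ ≠ c ^ s) →
      ∃ (R : Type u) (_ : Group R) (_ : Finite R) (π : R →* J), Cover J p R π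

/-- There is no cover. -/
def NoCoverThm : Prop :=
  ∀ {J : Type u} [Group J] [Finite J] (p m : ℕ), ReeHyp J p m → ∀ C : Subgroup J, Torus p m C →
    ∀ (R : Type u) [Group R] [Finite R] (π : R →* J), Cover J p R π → False

theorem scalarThm (h1 : CoverThm.{u}) (h2 : NoCoverThm.{u}) : ScalarThm.{u} := by
  intro J _ _ p m hJ C hC y hy hN hrel
  by_contra h
  push Not at h
  obtain ⟨R, iR, fR, π, hπ⟩ := h1 p m hJ C hC y hy hN hrel h
  exact h2 p m hJ C hC R π hπ

/-- No local configuration. -/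
def LocalThm : Prop :=
  ∀ {G : Type u} [Group G] [Finite G], Minimal G → ∀ p : ℕ, LocalData G p → False

/-- An outer element of prime order of an involution centralizer gives a local configuration. -/
def DataThm : Prop :=
  ∀ {G : Type u} [Group G] [Finite G], Minimal G →
    (∀ a : G, orderOf a = 2 → ¬ Group.IsSolvable (centralizer ({a} : Set G))) →
    (∀ w : G, orderOf w = 2 → GW.core w = ⊥) →
    ∀ (z : G) (L : Subgroup G), orderOf z = 2 → L ≤ centralizer ({z} : Set G) →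
      centralizer ({z} : Set G) ≤ normalizer (L : Set G) → IsPSLOdd L → z ∉ L →
      centralizer (L : Set G) ⊓ centralizer ({z} : Set G) = zpowers z →
      Odd ((L ⊔ zpowers z).relIndex (centralizer ({z} : Set G))) →
      ∀ p : ℕ, p.Prime → p ∣ (L ⊔ zpowers z).relIndex (centralizer ({z} : Set G)) →
        Nonempty (LocalData G p)

end CfsgLib.Walter.FieldAut
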