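import Cfsg.Agent.Walter.FieldAut.Defs

/-!
# Walter: with trivial cores the centralizers split as `Z₂ × PSL₂(q)`

If `LocalThm` and `DataThm` hold, `C(z) = L × ⟨z⟩` for the component `L`.
-/

set_option autoImplicit false
set_option linter.style.haveILetI false
set_option linter.unusedSectionVars false

open Subgroup

namespace CfsgLib.Walter.FieldAut

universe u

/-- An involution and a simple subgroup it centralizes but does not lie in generate a product. -/
theorem mulEquiv_of_sup {G : Type u} [Group G] {z : G} (hz : orderOf z = 2) {L : Subgroup G}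
    (hle : L ≤ centralizer ({z} : Set G)) (hzL : z ∉ L) :
    Nonempty (↥(L ⊔ zpowers z) ≃* Multiplicative (ZMod 2) × L) := by
  let f : zpowers z × L →* G :=
    { toFun := fun x => (x.1 : G) * x.2
      map_one' := by simp
      map_mul' := by
        rintro ⟨⟨a, ha⟩, b⟩ ⟨⟨c, hc⟩, d⟩
        obtain ⟨n, rfl⟩ := mem_zpowers_iff.1 hc
        have hb : Commute (z ^ n) (b : G) :=
          Commute.zpow_left (mem_centralizer_singleton_iff.1 (hle b.2)).symm n
        show a * z ^ n * ((b : G) * d) = a * b * (z ^ n * d)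
        rw [mul_assoc, ← mul_assoc (z ^ n), hb.eq]
        group }
  have hinj : Function.Injective f := by
    rw [injective_iff_map_eq_one]
    rintro ⟨⟨a, ha⟩, b⟩ h
    have hab : a * (b : G) = 1 := h
    have haL : a ∈ L := by rw [mul_eq_one_iff_eq_inv.1 hab]; exact inv_mem b.2
    obtain ⟨n, rfl⟩ := mem_zpowers_iff.1 ha
    rcases Int.even_or_odd n with ⟨k, rfl⟩ | ⟨k, rfl⟩
    · have h1 : z ^ (k + k) = 1 := by
        rw [zpow_add, ← (Commute.refl z).mul_zpow, ← pow_two, ← hz, pow_orderOf_eq_one, one_zpow]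
      rw [h1, one_mul] at hab
      exact Prod.ext (Subtype.ext h1) (Subtype.ext hab)
    · refine absurd ?_ hzL
      have h1 : z ^ (2 * k + 1) = z := by
        rw [zpow_add_one, zpow_mul, zpow_two, ← pow_two, ← hz, pow_orderOf_eq_one, one_zpow,
          one_mul]
      rwa [h1] at haL
  have hrange : f.range = L ⊔ zpowers z := by
    refine le_antisymm ?_ (sup_le (fun b hb => ⟨(1, ⟨b, hb⟩), one_mul b⟩)
      fun a ha => ⟨(⟨a, ha⟩, 1), mul_one a⟩)
    rintro _ ⟨x, rfl⟩
    exact mul_mem (mem_sup_right x.1.2) (mem_sup_left x.2.2)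
  exact ⟨((MonoidHom.ofInjective hinj).trans (MulEquiv.subgroupCongr hrange)).symm.trans
    ((mulEquivOfCyclicCardEq (by rw [Nat.card_congr Multiplicative.toAdd, Nat.card_zmod,
      Nat.card_zpowers, hz])).prodCongr (MulEquiv.refl L))⟩

theorem centralizerThm (hD : DataThm.{u}) (hL : LocalThm.{u}) : CentralizerThm.{u} := by
  intro G _ _ hG hnsol hSE hcore z hz
  obtain ⟨L, hle, hnor, hpsl, hzL, hcen, hodd⟩ :=
    hG.exists_component hnsol hz (hcore z hz)
  obtain ⟨F, iF, fF, h8, h5, ⟨e⟩⟩ := hpsl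
  refine ⟨F, iF, fF, h8, h5, ?_⟩
  have htop : L ⊔ zpowers z = centralizer ({z} : Set G) := by
    refine le_antisymm (sup_le hle (zpowers_le.2 (mem_centralizer_self z)))
      (relIndex_eq_one.1 ?_)
    by_contra hne
    obtain ⟨p, hp, hpd⟩ := Nat.exists_prime_and_dvd hne
    obtain ⟨D⟩ := hD hG hnsol hcore z L hz hle hnor ⟨F, iF, fF, h8, h5, ⟨e⟩⟩ hzL hcen hodd p hp hpd
    exact hL hG p D
  obtain ⟨e'⟩ := mulEquiv_of_sup hz hle hzL
  exact ⟨(MulEquiv.subgroupCongr htop.symm).trans
    (e'.trans ((MulEquiv.refl _).prodCongr e))⟩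

end CfsgLib.Walter.FieldAut
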