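import Cfsg.Agent.Walter.FieldAut.TorusValues
import Cfsg.Agent.Walter.FieldAut.Defs
import Mathlib.GroupTheory.FixedPointFree

/-!
# Groups of Ree order: the tori of order `q ± 3 n + 1`

The centralizer `C` of an element of order `p` dividing `q² - q + 1` is abelian, inverted by an
involution `i`, has order equal to the number of involutions inverting it and is the centralizer of
each of its nontrivial elements.  Its normalizer is `C (N(C) ∩ C(i))`; counting the fixed points of
`C` on the cosets of the normalizer gives `|N(C) ∩ C(i)| = 6`.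
-/

set_option autoImplicit false
set_option linter.style.haveILetI false
set_option linter.unusedSectionVars false
set_option maxHeartbeats 1000000

namespace CfsgLib.JankoThompson

open Matrix CfsgLib.ReeTypeS3
open scoped MatrixGroups

universe u

/-- A group acting with exactly one fixed point and freely elsewhere has order dividing the number
of the other points. -/
theorem exists_mul_add_one {H X : Type*} [Group H] [Finite H] [Finite X] [MulAction H X] (x₀ : X)
    (h0 : ∀ h : H, h • x₀ = x₀) (h1 : ∀ h : H, h ≠ 1 → ∀ x : X, h • x = x → x = x₀) :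
    (Nat.card H : ℤ) ∣ (Nat.card X : ℤ) - 1 := by
  classical
  haveI := Fintype.ofFinite H
  haveI := Fintype.ofFinite X
  haveI : Fintype (Quotient (MulAction.orbitRel H X)) := Fintype.ofFinite _
  have hsum := MulAction.sum_card_fixedBy_eq_card_orbits_mul_card_group H X
  rw [← Finset.add_sum_erase _ _ (Finset.mem_univ (1 : H)),
    Finset.sum_congr rfl (g := fun _ => 1) fun h hh => ?_, Finset.sum_const, smul_eq_mul, mul_one,
    Finset.card_erase_of_mem (Finset.mem_univ _), Finset.card_univ] at hsum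
  · have hX : Fintype.card (MulAction.fixedBy X (1 : H)) = Fintype.card X :=
      Fintype.card_congr ((Equiv.setCongr (Set.eq_univ_of_forall fun x => one_smul H x)).trans
        (Equiv.Set.univ X))
    rw [hX] at hsum
    have hpos : 1 ≤ Fintype.card H := Fintype.card_pos
    refine ⟨(Fintype.card (Quotient (MulAction.orbitRel H X)) : ℤ) - 1, ?_⟩
    rw [Nat.card_eq_fintype_card, Nat.card_eq_fintype_card]
    have hz := congrArg (Nat.cast : ℕ → ℤ) hsum
    push_cast [hpos] at hz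
    linear_combination hz
  · have hne := (Finset.mem_erase.1 hh).1
    refine Fintype.card_eq_one_iff.2 ⟨⟨x₀, h0 h⟩, fun y => Subtype.ext (h1 h hne y.1 y.2)⟩

/-- The index of a torus modulo its order. -/
theorem index_congr {q N c c' : ℤ} (hq : q = 3 * (N * N)) (hc : c = q + 1 + 3 * N)
    (hc' : c' = q + 1 - 3 * N) : c ∣ q ^ 3 * (c' * ((q + 1) * (q - 1))) - 6 :=
  ⟨(q + 1) * c' ^ 2 * ((q + 1) * (q - 1)) - (q + 1) * (q - 1) + 6 * N * (q - 1) - 6 * c', by
    subst hc hc' hq; ring⟩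

variable {J : Type u} [Group J] [Fintype J] {F : Type} [Field F] [Fintype F]
variable {E : Emb J (Matrix.ProjectiveSpecialLinearGroup (Fin 2) F)} {m : ℕ}

namespace TorusCtx

variable (c : TorusCtx E m)
include c

theorem cent_dvd (D : Dat E) {y : J} (hy1 : y ≠ 1) (hy : orderOf y ∣ gOf F) :
    Nat.card (Subgroup.centralizer ({y} : Set J)) ∣ gOf F := by
  obtain ⟨ℓ, hℓ, hℓy⟩ := Nat.exists_prime_and_dvd (fun e => hy1 (orderOf_eq_one_iff.1 e))
  have ho : orderOf (y ^ (orderOf y / ℓ)) = ℓ := orderOf_pow_orderOf_div (orderOf_pos y).ne' hℓy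
  refine dvd_trans (Subgroup.card_dvd_of_le fun z hz => ?_) (c.centralizer_dvd D hℓ (hℓy.trans hy) ho)
  exact Subgroup.mem_centralizer_singleton_iff.2
    ((show Commute z y from Subgroup.mem_centralizer_singleton_iff.1 hz).pow_right _).eq

theorem eq_one_of_commute (D : Dat E) {i y z : J} (hi1 : i ≠ 1) (hi : i * i = 1) (hy1 : y ≠ 1)
    (hy : orderOf y ∣ gOf F) (hzy : Commute z y) (hzi : Commute z i) : z = 1 := by
  have h1 := (orderOf_dvd_natCard (⟨z, Subgroup.mem_centralizer_singleton_iff.2 hzy.eq⟩ :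
    Subgroup.centralizer ({y} : Set J)))
  have h2 := (orderOf_dvd_natCard (⟨z, Subgroup.mem_centralizer_singleton_iff.2 hzi.eq⟩ :
    Subgroup.centralizer ({i} : Set J)))
  rw [Subgroup.orderOf_mk] at h1 h2
  rw [natCard_cent_involution c.hyp hi1 hi, ← natCard_C c.hyp, c.natCard_cent] at h2
  exact orderOf_eq_one_iff.1
    (Nat.eq_one_of_dvd_coprimes c.coprime_cent (h1.trans (c.cent_dvd D hy1 hy)) h2)

theorem conj_eq_inv_of_commute (D : Dat E) {i y z : J} (hi1 : i ≠ 1) (hi : i * i = 1) (hy1 : y ≠ 1)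
    (hy : orderOf y ∣ gOf F) (hiy : i * y * i⁻¹ = y⁻¹) (hzy : Commute z y) :
    i * z * i⁻¹ = z⁻¹ := by
  set C := Subgroup.centralizer ({y} : Set J) with hC
  have hmem : ∀ w : C, i * (w : J) * i⁻¹ ∈ C := fun w => by
    have h := (commute_conj_iff (g := i)).2
      (show Commute (w : J) y from Subgroup.mem_centralizer_singleton_iff.1 w.2)
    rw [hiy] at h
    exact Subgroup.mem_centralizer_singleton_iff.2 (Commute.inv_right_iff.1 h).eq
  let φ : C →* C :=
    { toFun := fun w => ⟨i * (w : J) * i⁻¹, hmem w⟩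
      map_one' := Subtype.ext (by simp)
      map_mul' := fun a b => Subtype.ext (by simp [mul_assoc]) }
  have hfix : MonoidHom.FixedPointFree φ := fun w hw => by
    refine Subtype.ext (c.eq_one_of_commute D hi1 hi hy1 hy
      (Subgroup.mem_centralizer_singleton_iff.1 w.2) ?_)
    exact (mul_inv_eq_iff_eq_mul.1 (congrArg Subtype.val hw)).symm
  have hinv : Function.Involutive φ := fun w => Subtype.ext (by
    show i * (i * (w : J) * i⁻¹) * i⁻¹ = w
    rw [show i * (i * (w : J) * i⁻¹) * i⁻¹ = i * i * (w : J) * (i * i)⁻¹ by group, hi]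
    group)
  exact congrArg Subtype.val
    (congrFun (hfix.coe_eq_inv_of_involutive hinv) ⟨z, Subgroup.mem_centralizer_singleton_iff.2 hzy.eq⟩)

theorem commute_of_commute (D : Dat E) {i y a b : J} (hi1 : i ≠ 1) (hi : i * i = 1) (hy1 : y ≠ 1)
    (hy : orderOf y ∣ gOf F) (hiy : i * y * i⁻¹ = y⁻¹) (ha : Commute a y) (hb : Commute b y) :
    Commute a b := by
  have ea := c.conj_eq_inv_of_commute D hi1 hi hy1 hy hiy ha
  have eb := c.conj_eq_inv_of_commute D hi1 hi hy1 hy hiy hb
  have eab := c.conj_eq_inv_of_commute D hi1 hi hy1 hy hiy (ha.mul_left hb)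
  have h : a⁻¹ * b⁻¹ = (a * b)⁻¹ := by rw [← eab, ← ea, ← eb]; group
  rw [_root_.mul_inv_rev] at h
  exact Commute.inv_left_iff.1 (Commute.inv_right_iff.1 h)

theorem exists_inverter {ℓ : ℕ} (hℓ : ℓ.Prime) (hℓg : ℓ ∣ gOf F) {x : J} (hx : ℓ ∣ orderOf x) :
    ∃ i : J, i ≠ 1 ∧ i * i = 1 ∧ i * x * i⁻¹ = x⁻¹ := by
  have h27 := c.twentyseven_le
  have hle := c.three_n_le
  have hpos : 0 < pairs x := by
    rcases c.pairs_eq hℓ hℓg hx with ⟨-, e⟩ | ⟨-, e⟩ <;> rw [e]
    · unfold cPlus; omega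
    · unfold cMinus; omega
  obtain ⟨⟨i, ⟨hi1, hi⟩, -, hix⟩⟩ := (Nat.card_pos_iff.1 hpos).1
  refine ⟨i, hi1, hi, eq_inv_of_mul_eq_one_left ?_⟩
  rwa [inv_eq_of_mul_eq_one_right hi, mul_assoc]

/-- The centralizer has as many elements as there are inverting involutions. -/
theorem natCard_eq_pairs (D : Dat E) {i x : J} (hi1 : i ≠ 1) (hi : i * i = 1) (hx1 : x ≠ 1)
    (hx : orderOf x ∣ gOf F) (hix : i * x * i⁻¹ = x⁻¹) :
    Nat.card (Subgroup.centralizer ({x} : Set J)) = pairs x := by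
  have hii : i⁻¹ = i := inv_eq_of_mul_eq_one_right hi
  have hnot : ¬ Commute i x := fun h => hx1 (by
    have e : x * x = 1 := by
      rw [h.eq, mul_inv_cancel_right] at hix
      nth_rewrite 2 [hix]
      exact mul_inv_cancel x
    exact orderOf_eq_one_iff.1 (Nat.eq_one_of_dvd_coprimes (Nat.coprime_two_left.2 c.odd_g)
      (orderOf_dvd_of_pow_eq_one ((pow_two x).trans e)) hx))
  unfold pairs
  have key : ∀ z : J, Commute z x → (z * i ≠ 1 ∧ z * i * (z * i) = 1) ∧
      (z * i * x ≠ 1 ∧ z * i * x * (z * i * x) = 1) := by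
    intro z hz
    have hiz := c.conj_eq_inv_of_commute D hi1 hi hx1 hx hix hz
    have hix' : i * x = x⁻¹ * i := by rw [← hix]; group
    have hiz' : i * z = z⁻¹ * i := by rw [← hiz]; group
    refine ⟨⟨fun e => hnot ?_, ?_⟩, fun e => hnot ?_, ?_⟩
    · rw [eq_inv_of_mul_eq_one_right e]; exact hz.inv_left
    · rw [show z * i * (z * i) = z * (i * z) * i by group, hiz',
        show z * (z⁻¹ * i) * i = i * i by group, hi]
    · have ei : i = z⁻¹ * x := by
        rw [mul_assoc, hix', ← mul_assoc] at e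
        rw [eq_inv_of_mul_eq_one_right e, _root_.mul_inv_rev, inv_inv]
        exact ((hz.inv_left).eq).symm
      rw [ei]
      exact (hz.inv_left).mul_left (Commute.refl x)
    · rw [show z * i * x * (z * i * x) = z * ((i * x) * (z * (i * x))) by group, hix',
        show z * (x⁻¹ * i * (z * (x⁻¹ * i))) = z * x⁻¹ * (i * z) * x⁻¹ * i by group, hiz',
        show z * x⁻¹ * (z⁻¹ * i) * x⁻¹ * i = z * x⁻¹ * z⁻¹ * (i * x⁻¹ * i) by group,
        hz.inv_right.eq, mul_inv_cancel_right]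
      rw [show i * x⁻¹ * i = (i * x * i⁻¹)⁻¹ by rw [hii]; rw [_root_.mul_inv_rev, _root_.mul_inv_rev, hii]; group,
        hix, inv_inv, inv_mul_cancel]
  let f : Subgroup.centralizer ({x} : Set J) →
      {a : J // (a ≠ 1 ∧ a * a = 1) ∧ (a * x ≠ 1 ∧ a * x * (a * x) = 1)} := fun z =>
    ⟨(z : J) * i, key _ (Subgroup.mem_centralizer_singleton_iff.1 z.2)⟩
  refine Nat.card_eq_of_bijective f ⟨fun a b h => Subtype.ext (mul_right_cancel (congrArg Subtype.val h)),
    fun a => ?_⟩
  obtain ⟨⟨-, ha⟩, -, hax⟩ := a.2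
  have hainv : (a : J)⁻¹ = a := inv_eq_of_mul_eq_one_right ha
  have e : (a : J) * x * (a : J) = x⁻¹ := eq_inv_of_mul_eq_one_left (by rwa [mul_assoc ((a : J) * x)])
  refine ⟨⟨(a : J) * i, Subgroup.mem_centralizer_singleton_iff.2 ?_⟩, Subtype.ext ?_⟩
  · have hix' : i * x = x⁻¹ * i := by rw [← hix]; group
    rw [mul_assoc, hix', ← e, show (a : J) * ((a : J) * x * (a : J) * i) =
      (a : J) * (a : J) * x * ((a : J) * i) by group, ha, one_mul]
  · show (a : J) * i * i = a
    rw [mul_assoc, hi, mul_one]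

/-- The torus through an element of order `p`. -/
theorem torus {p : ℕ} (hp : p.Prime) (hpg : p ∣ gOf F) {x : J} (hx : orderOf x = p) :
    ∃ C : Subgroup J, Walter.FieldAut.Torus p m C ∧ x ∈ C := by
  classical
  obtain ⟨D⟩ := exists_dat c.hyp
  have hx1 : x ≠ 1 := fun e => hp.ne_one (by rw [← hx, e, orderOf_one])
  have hxg : orderOf x ∣ gOf F := hx ▸ hpg
  obtain ⟨i, hi1, hi, hix⟩ := c.exists_inverter hp hpg (dvd_of_eq hx.symm)
  have hii : i⁻¹ = i := inv_eq_of_mul_eq_one_right hi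
  set C := Subgroup.centralizer ({x} : Set J) with hC
  have hxC : x ∈ C := Subgroup.mem_centralizer_singleton_iff.2 rfl
  have hcom : ∀ a ∈ C, ∀ b ∈ C, Commute a b := fun a ha b hb =>
    c.commute_of_commute D hi1 hi hx1 hxg hix (Subgroup.mem_centralizer_singleton_iff.1 ha)
      (Subgroup.mem_centralizer_singleton_iff.1 hb)
  have hinv : ∀ a ∈ C, i * a * i⁻¹ = a⁻¹ := fun a ha =>
    c.conj_eq_inv_of_commute D hi1 hi hx1 hxg hix (Subgroup.mem_centralizer_singleton_iff.1 ha)
  have hdvd : Nat.card C ∣ gOf F := c.cent_dvd D hx1 hxg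
  have hord : ∀ a ∈ C, orderOf a ∣ gOf F := fun a ha => by
    have h := orderOf_dvd_natCard (⟨a, ha⟩ : C)
    rw [Subgroup.orderOf_mk] at h
    exact h.trans hdvd
  have hcent : ∀ a ∈ C, a ≠ 1 → Subgroup.centralizer ({a} : Set J) = C := fun a ha ha1 =>
    le_antisymm (fun z hz => Subgroup.mem_centralizer_singleton_iff.2
        (c.commute_of_commute D hi1 hi ha1 (hord a ha) (hinv a ha)
          (Subgroup.mem_centralizer_singleton_iff.1 hz) (hcom x hxC a ha)).eq)
      fun z hz => Subgroup.mem_centralizer_singleton_iff.2 (hcom z hz a ha).eq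
  have hpC : p ∣ Nat.card C := by
    have h := orderOf_dvd_natCard (⟨x, hxC⟩ : C)
    rwa [Subgroup.orderOf_mk, hx] at h
  -- the order and the index of `C`
  obtain ⟨N, c', hN, hcc', hc'eq, hCeq, hc'p⟩ : ∃ (N : ℤ) (c' : ℕ),
      (Fintype.card F : ℤ) = 3 * (N * N) ∧ Nat.card C * c' = gOf F ∧
      (c' : ℤ) = (Fintype.card F : ℤ) + 1 - 3 * N ∧
      (Nat.card C : ℤ) = (Fintype.card F : ℤ) + 1 + 3 * N ∧ ¬ p ∣ c' := by
    have hn := c.natCard_eq_pairs D hi1 hi hx1 hxg hix
    have hpm : (cPlus F m : ℤ) = (Fintype.card F : ℤ) + 1 + 3 * 3 ^ m := by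
      unfold cPlus; push_cast; ring
    rcases c.pairs_eq hp hpg (dvd_of_eq hx.symm) with ⟨h, e⟩ | ⟨h, e⟩
    · exact ⟨3 ^ m, cMinus F m, c.q_eq_n, by rw [hn, e, c.cPlus_mul_cMinus], c.cast_cMinus,
        by rw [hn, e, hpm], fun h' => c.not_dvd_both hp hpg ⟨h, h'⟩⟩
    · exact ⟨-(3 ^ m), cPlus F m, by rw [c.q_eq_n]; ring,
        by rw [hn, e, mul_comm, c.cPlus_mul_cMinus], by rw [hpm]; ring,
        by rw [hn, e, c.cast_cMinus]; ring, fun h' => c.not_dvd_both hp hpg ⟨h', h⟩⟩
  have hpm2 : ¬ p ∣ Fintype.card F * ((Fintype.card F + 1) * (Fintype.card F - 1)) :=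
    fun h => c.not_dvd_g hp h hpg
  have hidx : C.index =
      Fintype.card F ^ 3 * (c' * ((Fintype.card F + 1) * (Fintype.card F - 1))) := by
    refine Nat.eq_of_mul_eq_mul_left (Nat.card_pos (α := C)) ?_
    rw [C.card_mul_index, c.card_eq, ← hcc']
    ring
  have hip : ¬ p ∣ C.index := by
    rw [hidx]
    intro h
    rcases hp.dvd_mul.1 h with h | h
    · exact hpm2 ((hp.dvd_of_dvd_pow h).mul_right _)
    rcases hp.dvd_mul.1 h with h | h
    · exact hc'p h
    · exact hpm2 (h.mul_left _)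
  have h6 : (6 : ℕ) < Nat.card C := by
    have h27 := c.twentyseven_le
    have hle := c.three_n_le
    rw [c.natCard_eq_pairs D hi1 hi hx1 hxg hix]
    rcases c.pairs_eq hp hpg (dvd_of_eq hx.symm) with ⟨-, e⟩ | ⟨-, e⟩ <;> rw [e]
    · unfold cPlus; omega
    · unfold cMinus
      have : 9 * 3 ^ m ≤ Fintype.card F := by
        rw [c.card_F, show 9 * 3 ^ m = 3 ^ (m + 2) by ring]
        exact Nat.pow_le_pow_right (by norm_num) (by have := c.one_le; omega)
      omega
  -- the normalizer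
  set M := Subgroup.normalizer (C : Set J) with hM
  have hCM : C ≤ M := Subgroup.le_normalizer
  haveI hnorm : (C.subgroupOf M).Normal := (Subgroup.normal_subgroupOf_iff_le_normalizer hCM).2 le_rfl
  have hMmem : ∀ n ∈ M, ∀ a ∈ C, n * a * n⁻¹ ∈ C := fun n hn a ha =>
    (Subgroup.mem_normalizer_iff.1 hn a).1 ha
  have hiM : i ∈ M := Subgroup.mem_normalizer_fintype fun a ha => by
    rw [hinv a ha]; exact inv_mem ha
  have hfact : ∀ j : J, j ≠ 1 → j * j = 1 → (∀ a ∈ C, j * a * j⁻¹ = a⁻¹) → ∀ n ∈ M,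
      ∃ z ∈ C, z⁻¹ * n ∈ M ⊓ Subgroup.centralizer ({j} : Set J) := by
    intro j hj1 hj hjinv n hn
    have hjj : j⁻¹ = j := inv_eq_of_mul_eq_one_right hj
    have hw : n * j * n⁻¹ * j ∈ C := by
      refine Subgroup.mem_centralizer_singleton_iff.2 ?_
      have hnj : n * j * n⁻¹ * x * (n * j * n⁻¹)⁻¹ = x⁻¹ := by
        have hy : n⁻¹ * x * n ∈ C := by
          simpa using hMmem _ (inv_mem hn) x hxC
        rw [show n * j * n⁻¹ * x * (n * j * n⁻¹)⁻¹ = n * (j * (n⁻¹ * x * n) * j⁻¹) * n⁻¹ by group,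
          hjinv _ hy]
        group
      have hjx : j * x = x⁻¹ * j := by rw [← hjinv x hxC]; group
      rw [mul_assoc, hjx, ← hnj]
      rw [show n * j * n⁻¹ * (n * j * n⁻¹ * x * (n * j * n⁻¹)⁻¹ * j) =
        n * (j * j) * n⁻¹ * x * (n * j⁻¹ * n⁻¹ * j) by group, hj, hjj]
      group
    set w := n * j * n⁻¹ * j with hwdef
    obtain ⟨k, hk⟩ := c.odd_g.of_dvd_nat (hord w hw)
    have hw2 : w ^ (k + 1) * w ^ (k + 1) = w := by
      rw [← pow_add, show k + 1 + (k + 1) = orderOf w + 1 by omega, pow_succ, pow_orderOf_eq_one,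
        one_mul]
    set z := w ^ (k + 1) with hz
    have hzC : z ∈ C := pow_mem hw _
    refine ⟨z, hzC, Subgroup.mem_inf.2 ⟨mul_mem (inv_mem (hCM hzC)) hn,
      Subgroup.mem_centralizer_singleton_iff.2 ?_⟩⟩
    have hnj : n * j = z * z * j * n := by
      rw [hw2, hwdef, show n * j * n⁻¹ * j * j * n = n * j * n⁻¹ * (j * j) * n by group, hj]
      group
    have hjz : j * z⁻¹ = z * j := by
      have h := mul_inv_eq_iff_eq_mul.1 (hjinv z⁻¹ (inv_mem hzC))
      rwa [inv_inv] at h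
    rw [mul_assoc, hnj, ← mul_assoc j, hjz]
    group
  have hKC : ∀ j : J, j ≠ 1 → j * j = 1 → ∀ k ∈ M ⊓ Subgroup.centralizer ({j} : Set J),
      k ∈ C → k = 1 := fun j hj1 hj k hk hkC =>
    c.eq_one_of_commute D hj1 hj hx1 hxg (Subgroup.mem_centralizer_singleton_iff.1 hkC)
      (Subgroup.mem_centralizer_singleton_iff.1 hk.2)
  have hrelj : ∀ j : J, j ≠ 1 → j * j = 1 → (∀ a ∈ C, j * a * j⁻¹ = a⁻¹) →
      C.relIndex M = Nat.card (M ⊓ Subgroup.centralizer ({j} : Set J) : Subgroup J) := by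
    intro j hj1 hj hjinv
    have hb : Function.Bijective
        fun t : C × (M ⊓ Subgroup.centralizer ({j} : Set J) : Subgroup J) =>
          (⟨(t.1 : J) * (t.2 : J), mul_mem (hCM t.1.2) t.2.2.1⟩ : M) := by
      constructor
      · intro a b h
        have h' : (a.1 : J) * (a.2 : J) = (b.1 : J) * (b.2 : J) := congrArg Subtype.val h
        have h2 : (b.1 : J)⁻¹ * (a.1 : J) = (b.2 : J) * (a.2 : J)⁻¹ := by
          rw [eq_mul_inv_iff_mul_eq, mul_assoc, h', inv_mul_cancel_left]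
        have h3 : (b.2 : J) * (a.2 : J)⁻¹ = 1 := hKC j hj1 hj _ (mul_mem b.2.2 (inv_mem a.2.2))
          (h2 ▸ mul_mem (inv_mem b.1.2) a.1.2)
        exact Prod.ext (Subtype.ext (inv_mul_eq_one.1 (h2.trans h3)).symm)
          (Subtype.ext (mul_inv_eq_one.1 h3).symm)
      · rintro ⟨n, hn⟩
        obtain ⟨z, hz, hk⟩ := hfact j hj1 hj hjinv n hn
        exact ⟨(⟨z, hz⟩, ⟨z⁻¹ * n, hk⟩), Subtype.ext (mul_inv_cancel_left z n)⟩
    have h1 := Nat.card_eq_of_bijective _ hb
    rw [Nat.card_prod] at h1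
    have h2 := Subgroup.card_mul_index (C.subgroupOf M)
    rw [Nat.card_congr (Subgroup.subgroupOfEquivOfLe hCM).toEquiv, ← h1] at h2
    exact Nat.eq_of_mul_eq_mul_left (Nat.card_pos (α := C)) h2
  set K := M ⊓ Subgroup.centralizer ({i} : Set J) with hK
  have hrel : C.relIndex M = Nat.card K := hrelj i hi1 hi hinv
  have hKdvd : (Nat.card K : ℤ) ∣ (Nat.card C : ℤ) - 1 := by
    letI : MulAction K C :=
      { smul := fun k a => ⟨(k : J) * (a : J) * (k : J)⁻¹, hMmem _ k.2.1 _ a.2⟩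
        one_smul := fun a => Subtype.ext (by
          show ((1 : K) : J) * (a : J) * ((1 : K) : J)⁻¹ = a
          simp)
        mul_smul := fun k k' a => Subtype.ext (by
          show ((k * k' : K) : J) * (a : J) * ((k * k' : K) : J)⁻¹ =
            (k : J) * ((k' : J) * (a : J) * (k' : J)⁻¹) * (k : J)⁻¹
          simp [mul_assoc]) }
    refine exists_mul_add_one (1 : C) (fun k => Subtype.ext ?_) fun k hk a ha => ?_
    · show (k : J) * ((1 : C) : J) * (k : J)⁻¹ = ((1 : C) : J)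
      simp
    · by_contra hne
      have e : (k : J) * (a : J) * (k : J)⁻¹ = a := congrArg Subtype.val ha
      refine hk (Subtype.ext (hKC i hi1 hi _ k.2 ?_))
      rw [← hcent a a.2 (fun e' => hne (Subtype.ext e'))]
      exact Subgroup.mem_centralizer_singleton_iff.2 (mul_inv_eq_iff_eq_mul.1 e)
  have hMdvd : (Nat.card C : ℤ) ∣ (M.index : ℤ) - 1 := by
    rw [show M.index = Nat.card (J ⧸ M) from rfl]
    refine exists_mul_add_one ((1 : J) : J ⧸ M) (fun a => ?_) fun a ha y => ?_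
    · show (((a : J) * 1 : J) : J ⧸ M) = _
      exact (QuotientGroup.eq.2 (by simpa using hCM a.2))
    · refine QuotientGroup.induction_on y fun g hg => ?_
      have hg' : g⁻¹ * (a : J) * g ∈ M := by
        have e : (((a : J) * g : J) : J ⧸ M) = (g : J ⧸ M) := hg
        rw [mul_assoc]
        exact QuotientGroup.eq.1 e.symm
      set b := g⁻¹ * (a : J) * g with hb
      have hbo : orderOf b ∣ Nat.card C := by
        rw [hb, show g⁻¹ * (a : J) * g = g⁻¹ * (a : J) * g⁻¹⁻¹ by rw [inv_inv], orderOf_conj']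
        have h := orderOf_dvd_natCard a
        rwa [← Subgroup.orderOf_coe] at h
      have hbK : b ^ Nat.card K ∈ C := by
        have h := Subgroup.pow_index_mem (C.subgroupOf M) (⟨b, hg'⟩ : M)
        rw [show (C.subgroupOf M).index = Nat.card K from hrel] at h
        exact h
      have hcop : (Nat.card K).Coprime (orderOf b) := by
        refine Nat.Coprime.coprime_dvd_right hbo (Nat.isCoprime_iff_coprime.1 ?_)
        obtain ⟨t, ht⟩ := hKdvd
        exact ⟨-t, 1, by linear_combination ht⟩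
      obtain ⟨j, hj⟩ := exists_pow_eq_self_of_coprime hcop
      have hbC : b ∈ C := hj ▸ pow_mem hbK j
      have ha1 : (a : J) ≠ 1 := fun e => ha (Subtype.ext e)
      have hb1 : b ≠ 1 := fun e => ha1 (by
        have := congrArg (fun t => g * t * g⁻¹) e
        simpa [hb, mul_assoc] using this)
      have hgM : g⁻¹ ∈ M := by
        refine Subgroup.mem_normalizer_fintype fun z hz => ?_
        rw [SetLike.mem_coe, inv_inv, ← hcent b hbC hb1]
        refine Subgroup.mem_centralizer_singleton_iff.2 ?_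
        have h := (commute_conj_iff (g := g⁻¹)).2 (hcom z hz (a : J) a.2)
        rw [inv_inv] at h
        exact h.eq
      exact QuotientGroup.eq.2 (by simpa using hgM)
  have hK6 : Nat.card K = 6 := by
    have h1 : (Nat.card C : ℤ) ∣ (C.index : ℤ) - 6 := by
      rw [hidx]
      push_cast [show 1 ≤ Fintype.card F from Fintype.card_pos]
      exact index_congr hN hCeq hc'eq
    have h2 : (C.index : ℤ) = (Nat.card K : ℤ) * (M.index : ℤ) := by
      rw [← hrel, ← Nat.cast_mul, Subgroup.relIndex_mul_index hCM]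
    have h3 : (Nat.card C : ℤ) ∣ (Nat.card K : ℤ) - 6 := by
      have := dvd_sub h1 (hMdvd.mul_left (Nat.card K : ℤ))
      rwa [h2, show (Nat.card K : ℤ) * (M.index : ℤ) - 6 - (Nat.card K : ℤ) * ((M.index : ℤ) - 1) =
        (Nat.card K : ℤ) - 6 by ring] at this
    have h4 : (Nat.card K : ℤ) ≤ (Nat.card C : ℤ) - 1 := Int.le_of_dvd (by omega) hKdvd
    have hKpos : (0 : ℤ) < Nat.card K := by exact_mod_cast Nat.card_pos
    have h5 := Int.eq_zero_of_dvd_of_natAbs_lt_natAbs h3 (by omega)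
    omega
  have hg : gOf F = (3 ^ (2 * m + 1)) ^ 2 - 3 ^ (2 * m + 1) + 1 := by rw [gOf, c.card_F]
  refine ⟨C, ⟨fun e => hx1 (Subgroup.mem_bot.1 (e ▸ hxC)), hcom, hg ▸ hdvd, hpC, hip, hcent,
    by rw [hrel, hK6], ⟨i, ?_, hinv⟩, ?_⟩, hxC⟩
  · exact orderOf_eq_prime_iff.2 ⟨by rw [pow_two, hi], hi1⟩
  intro j hj hjinv
  obtain ⟨hj1, hjj⟩ : j ≠ 1 ∧ j * j = 1 :=
    ⟨fun e => by rw [e, orderOf_one] at hj; omega, by rw [← pow_two, ← hj, pow_orderOf_eq_one]⟩
  have hjM : j ∈ M := Subgroup.mem_normalizer_fintype fun a ha => by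
    rw [hjinv a ha]; exact inv_mem ha
  have hcard : Nat.card (M ⊓ Subgroup.centralizer ({j} : Set J) : Subgroup J) = 6 := by
    rw [← hrelj j hj1 hjj hjinv, hrel, hK6]
  haveI : Fact (Nat.Prime 3) := ⟨Nat.prime_three⟩
  obtain ⟨⟨y, hyM, hyj⟩, hy⟩ := exists_prime_orderOf_dvd_card'
    (G := (M ⊓ Subgroup.centralizer ({j} : Set J) : Subgroup J)) 3 (by rw [hcard]; norm_num)
  rw [← Subgroup.orderOf_coe] at hy
  refine ⟨y, hy, Subgroup.mem_centralizer_singleton_iff.1 hyj, hyM, fun a ha => ?_⟩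
  set a1 := y * a * y⁻¹ with ha1
  set a2 := y * a1 * y⁻¹ with ha2
  have h1C : a1 ∈ C := hMmem y hyM a ha
  have h2C : a2 ∈ C := hMmem y hyM a1 h1C
  have hy3 : y ^ 3 = 1 := by rw [← hy, pow_orderOf_eq_one]
  have h3 : y * a2 * y⁻¹ = a := by
    rw [ha2, ha1, show y * (y * (y * a * y⁻¹) * y⁻¹) * y⁻¹ =
      y * y * y * a * (y * y * y)⁻¹ by group, ← pow_three', hy3]
    group
  by_contra hne
  have hfix : y * (a2 * a1 * a) * y⁻¹ = a2 * a1 * a := by
    rw [show y * (a2 * a1 * a) * y⁻¹ = y * a2 * y⁻¹ * (y * a1 * y⁻¹) * (y * a * y⁻¹) by group, h3,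
      ← ha1, ← ha2, mul_assoc, (hcom a ha (a2 * a1) (mul_mem h2C h1C)).eq]
  have hyC : y ∈ C := by
    rw [← hcent _ (mul_mem (mul_mem h2C h1C) ha) hne]
    exact Subgroup.mem_centralizer_singleton_iff.2 (mul_inv_eq_iff_eq_mul.1 hfix)
  exact (c.ne_two_three Nat.prime_three (hy ▸ hord y hyC)).2 rfl

end TorusCtx

end CfsgLib.JankoThompson

namespace CfsgLib.Walter.FieldAut

open JankoThompson ReeTypeS3

universe u

theorem torusThm : TorusThm.{u} := by
  intro J _ _ p m h x hx
  classical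
  haveI := Fintype.ofFinite J
  haveI := h.simple
  obtain ⟨t, ht⟩ : ∃ t : J, orderOf t = 2 := by
    haveI : Fact (Nat.Prime 2) := ⟨Nat.prime_two⟩
    refine exists_prime_orderOf_dvd_card' 2 ?_
    rw [h.card]
    have : Odd (3 ^ (2 * m + 1)) := Odd.pow (by decide)
    exact dvd_mul_of_dvd_right (Nat.Odd.sub_odd this odd_one).two_dvd _
  obtain ⟨F, hF, hfin, hq, ⟨e⟩⟩ := h.cent t ht
  have h27 : 27 ≤ Fintype.card F := by
    rw [hq]
    calc (27 : ℕ) = 3 ^ 3 := by norm_num
      _ ≤ _ := Nat.pow_le_pow_right (by norm_num) (by have := h.one_le; omega)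
  obtain ⟨⟨l, l', hll⟩, hcen⟩ := psl_facts (F := F) (by omega)
  obtain ⟨E, -⟩ := exists_emb hcen ht e
  obtain ⟨hperf, -⟩ := perfect_of_noncomm (G := J) (l := E.ι l) (m := E.ι l')
    fun h' => hll (E.inj (by rw [map_mul, map_mul, h']))
  have h8 : Fintype.card F % 8 = 3 := by
    rw [hq, pow_succ, pow_mul, Nat.mul_mod, Nat.pow_mod]; norm_num
  have c : JankoThompson.TorusCtx E m :=
    { hyp := { simple := h.simple
               perf := hperf
               ab := twoType_hab h.twoType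
               mod8 := ⟨by omega, Or.inl h8⟩ }
      two := h.twoType
      one_le := h.one_le
      card_F := hq
      card := by rw [h.card, hq] }
  exact c.torus h.prime (by rw [JankoThompson.gOf, hq]; exact h.dvd) hx

end CfsgLib.Walter.FieldAut
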