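import Cfsg.Agent.Walter.FieldAut.TorusSetup
import Cfsg.Agent.Walter.SE.ReeChars
import Cfsg.Agent.Coprime.Action

/-!
# Groups of Ree order: centralizers of torus elements and of elements of order dividing `q² - q + 1`

The centralizer of a nontrivial element of the torus `T` of order `(q - 1) / 2` is `⟨t⟩ × T`; that of
an element of prime order dividing `g = q² - q + 1` has order dividing `g`.
-/

set_option autoImplicit false
set_option linter.style.haveILetI false
set_option linter.unusedSectionVars false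
set_option maxHeartbeats 1000000

namespace CfsgLib.JankoThompson

open Matrix CfsgLib.ReeTypeS3
open scoped MatrixGroups

universe u

variable {J : Type u} [Group J] [Fintype J] {F : Type} [Field F] [Fintype F]

local notation "PST" => Matrix.ProjectiveSpecialLinearGroup (Fin 2) F

variable {E : Emb J (Matrix.ProjectiveSpecialLinearGroup (Fin 2) F)} {m : ℕ}

theorem commute_conj_iff {x y g : J} :
    Commute (g * x * g⁻¹) (g * y * g⁻¹) ↔ Commute x y := by
  constructor
  · intro h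
    have := h.map (MulAut.conj g⁻¹).toMonoidHom
    simpa [mul_assoc] using this
  · intro h
    exact h.map (MulAut.conj g).toMonoidHom

theorem orderOf_conj' (x g : J) : orderOf (g * x * g⁻¹) = orderOf x := by
  rw [show g * x * g⁻¹ = MulAut.conj g x from rfl, MulEquiv.orderOf_eq]

namespace TorusCtx

variable (c : TorusCtx E m) (D : Dat E)
include c

theorem Cr_of_dvd {ℓ : ℕ} (hℓ : ℓ.Prime) (hr : ℓ ∣ rOf F) {y : J} (hy : orderOf y = ℓ) :
    ∃ g : J, ∃ a ∈ D.c.Cr, a ≠ 1 ∧ g * y * g⁻¹ = E.ι a := by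
  haveI := Fact.mk hℓ
  have h2 : ℓ ≠ 2 := fun e => (JankoThompson.odd_r c.hyp.mod8).not_two_dvd_nat (e ▸ hr)
  have hq1 : ℓ ∣ Fintype.card F + 1 := c.four_r ▸ hr.mul_left 4
  have hg : ¬ ℓ ∣ gOf F := c.not_dvd_g hℓ (dvd_mul_of_dvd_right (hq1.mul_right _) _)
  have h3 : ℓ ≠ 3 := by
    rintro rfl
    have := c.three_dvd
    omega
  obtain ⟨g, l, hgl, hl⟩ := c.exists_conj_ι hℓ h2 h3 hg hy
  obtain ⟨k, hk⟩ := exists_conj_tor_r c.hyp.mod8 D.c.card_tor h2 hr (x := l) (j := 1)
    (by rw [pow_one, ← hl, pow_orderOf_eq_one])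
  have hkl : orderOf (k * l * k⁻¹) = ℓ := by
    rw [show k * l * k⁻¹ = MulAut.conj k l from rfl, MulEquiv.orderOf_eq, hl]
  refine ⟨E.ι k * g, k * l * k⁻¹, ⟨hk, ?_⟩, ?_, ?_⟩
  · obtain ⟨i, hi⟩ := hr
    have := pow_orderOf_eq_one (k * l * k⁻¹)
    rw [hkl] at this
    rw [hi, pow_mul, this, one_pow]
  · intro e
    rw [e, orderOf_one] at hkl
    exact hℓ.one_lt.ne hkl
  · rw [map_mul, map_mul, map_inv, ← hgl]
    group

include D in
theorem dvd_four_r {ℓ : ℕ} (hℓ : ℓ.Prime) (hr : ℓ ∣ rOf F) {y x : J} (hy : orderOf y = ℓ)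
    (hxy : Commute x y) : orderOf x ∣ Fintype.card F + 1 := by
  obtain ⟨g, a, ha, ha1, hga⟩ := c.Cr_of_dvd D hℓ hr hy
  have hmem : g * x * g⁻¹ ∈ D.c.ECr := Cyc.mem_ECr_of_commute c.hyp D.c ha ha1 (by
    rw [← hga]; exact (commute_conj_iff.2 hxy).eq)
  have h := orderOf_dvd_natCard (⟨_, hmem⟩ : D.c.ECr)
  rwa [Subgroup.orderOf_mk, Cyc.natCard_ECr c.hyp, c.four_r, orderOf_conj'] at h

theorem natCard_u : Nat.card (tor D.g₁) = uOf F := D.card₁

theorem pow_u {a : PST} (ha : a ∈ tor D.g₁) : a ^ uOf F = 1 := by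
  have h := pow_card_eq_one' (x := (⟨a, ha⟩ : tor D.g₁))
  rw [D.card₁] at h
  exact congrArg Subtype.val h

theorem eq_one_of_sq_u {a : PST} (ha : a ∈ tor D.g₁) (h : a * a = 1) : a = 1 := by
  obtain ⟨j, hj⟩ := odd_u c.hyp.mod8
  have hu := c.pow_u D ha
  rwa [hj, pow_succ, pow_mul, pow_two, h, one_pow, one_mul] at hu

theorem ι_torus_of_commute {a : PST} (ha : a ∈ tor D.g₁) (ha1 : a ≠ 1) {x : J}
    (hxt : x * E.t = E.t * x) (hxa : Commute x (E.ι a)) :
    ∃ l ∈ tor D.g₁, x = E.ι l ∨ x = E.t * E.ι l := by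
  obtain ⟨l, hl⟩ := E.cent x hxt
  refine ⟨l, ?_, hl⟩
  have h1 := E.conj_ι hl a
  rw [hxa.eq, mul_inv_cancel_right] at h1
  exact mem_tor_of_commute c.hyp.mod8 D.htr₁ ha (fun e => ha1 (c.eq_one_of_sq_u D ha e))
    (mul_inv_eq_iff_eq_mul.1 (E.inj h1).symm)

/-- The centralizer of a nontrivial element of the odd torus. -/
theorem mem_of_commute_tor {a : PST} (ha : a ∈ tor D.g₁) (ha1 : a ≠ 1) {x : J}
    (hxa : Commute x (E.ι a)) : ∃ l ∈ tor D.g₁, x = E.ι l ∨ x = E.t * E.ι l := by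
  classical
  haveI h2F : Fact (Nat.Prime 2) := ⟨Nat.prime_two⟩
  obtain ⟨w₀, hw₀N, hw₀T, hw₀⟩ := exists_inverting_tor D.htr₁ (two_ne c.hyp)
  have hw₀a : ∀ b ∈ tor D.g₁, w₀ * b * w₀⁻¹ = b⁻¹ := (torN_cases D.htr₁ hw₀N).resolve_left hw₀T
  set w := E.ι w₀ with hw
  have hww : w * w = 1 := by rw [hw, ← map_mul, hw₀, map_one]
  have htw : E.t * w = w * E.t := E.comm w₀
  set X := Subgroup.centralizer ({E.ι a} : Set J) with hX
  have hmem : ∀ y : J, y ∈ X ↔ Commute y (E.ι a) := fun y =>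
    Subgroup.mem_centralizer_singleton_iff
  have htX : E.t ∈ X := (hmem _).2 (E.comm a)
  have hwX : ∀ y ∈ X, w * y * w⁻¹ ∈ X := by
    intro y hy
    have hwa : w * E.ι a * w⁻¹ = (E.ι a)⁻¹ := by
      rw [hw, ← map_inv, ← map_mul, ← map_mul, hw₀a a ha, map_inv]
    have h := commute_conj_iff (g := w).2 ((hmem y).1 hy)
    rw [hwa] at h
    exact (hmem _).2 (Commute.inv_right_iff.1 h)
  -- the Sylow 2-subgroup
  have hsyl : ∀ T : Sylow 2 X, Nat.card (T : Subgroup X) = 2 := by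
    have htp : IsPGroup 2 (Subgroup.zpowers (⟨E.t, htX⟩ : X)) := IsPGroup.of_card (n := 1) (by
      rw [Nat.card_zpowers, Subgroup.orderOf_mk, E.orderOf_t, pow_one])
    obtain ⟨T₀, hT₀⟩ := htp.exists_le_sylow
    have hT₀eq : (T₀ : Subgroup X) = Subgroup.zpowers (⟨E.t, htX⟩ : X) := by
      refine le_antisymm (fun y hy => ?_) hT₀
      obtain ⟨hy2, hyt⟩ := two_group_facts c.hyp (T₀.2.map X.subtype) (x := (y : J)) (y := E.t)
        ⟨y, hy, rfl⟩ ⟨_, hT₀ (Subgroup.mem_zpowers _), rfl⟩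
      obtain ⟨l, hl, hyl⟩ := c.ι_torus_of_commute D ha ha1 hyt ((hmem _).1 y.2)
      have hl1 : l = 1 := c.eq_one_of_sq_u D hl (E.inj (by
        rw [map_mul, map_one]
        rcases hyl with e | e <;> rw [e] at hy2
        · exact hy2
        · rw [mul_assoc E.t, ← mul_assoc (E.ι l), ← E.comm l, mul_assoc E.t (E.ι l), ← mul_assoc,
            E.sq, one_mul] at hy2
          exact hy2))
      rw [hl1, map_one, mul_one] at hyl
      rcases hyl with e | e
      · exact (Subtype.ext e : y = 1) ▸ one_mem _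
      · exact (Subtype.ext e : y = ⟨E.t, htX⟩) ▸ Subgroup.mem_zpowers _
    intro T
    rw [Nat.card_congr (Sylow.equiv T T₀).toEquiv]
    show Nat.card (T₀ : Subgroup X) = 2
    rw [hT₀eq, Nat.card_zpowers, Subgroup.orderOf_mk, E.orderOf_t]
  obtain ⟨O', hO'n, hO'2, hO'odd⟩ := exists_index_two hsyl
  set O := O'.map X.subtype with hO
  have hOodd : Odd (Nat.card O) := by
    rwa [hO, Subgroup.card_map_of_injective X.subtype_injective]
  have hOmem : ∀ y : J, y ∈ O ↔ y ∈ X ∧ Odd (orderOf y) := by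
    intro y
    constructor
    · intro hy
      refine ⟨Subgroup.map_subtype_le _ hy, ?_⟩
      have := hOodd.of_dvd_nat (orderOf_dvd_natCard (⟨y, hy⟩ : O))
      rwa [Subgroup.orderOf_mk] at this
    · rintro ⟨hy, ⟨j, hj⟩⟩
      have h2 : (⟨y, hy⟩ : X) ^ 2 ∈ O' := Subgroup.sq_mem_of_index_two hO'2 _
      refine ⟨⟨y, hy⟩, ?_, rfl⟩
      have : (⟨y, hy⟩ : X) = ((⟨y, hy⟩ : X) ^ 2) ^ (j + 1) := Subtype.ext (by
        simp only [Subgroup.coe_pow]
        rw [← pow_mul, show 2 * (j + 1) = orderOf y + 1 by omega, pow_succ, pow_orderOf_eq_one,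
          one_mul])
      rw [this]
      exact pow_mem h2 _
  have hinvO : ∀ v : J, (∀ y ∈ X, v * y * v⁻¹ ∈ X) → ∀ y ∈ O, v * y * v⁻¹ ∈ O := by
    intro v hv y hy
    obtain ⟨hyX, hyo⟩ := (hOmem y).1 hy
    exact (hOmem _).2 ⟨hv y hyX, by rwa [orderOf_conj']⟩
  have htO := hinvO E.t fun y hy => mul_mem (mul_mem htX hy) (inv_mem htX)
  have hwO := hinvO w hwX
  -- the four-group
  set A := Subgroup.zpowers E.t ⊔ Subgroup.zpowers w with hA
  have hAO : A ≤ Subgroup.normalizer (O : Set J) := by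
    refine sup_le (Subgroup.zpowers_le.2 ?_) (Subgroup.zpowers_le.2 ?_)
    · exact Subgroup.mem_normalizer_fintype htO
    · exact Subgroup.mem_normalizer_fintype hwO
  have hA2 : IsPGroup 2 A := by
    refine IsPGroup.to_sup_of_normal_right' (IsPGroup.of_card (n := 1) ?_)
      (IsPGroup.of_card_dvd_pow (n := 1) ?_) ?_
    · rw [Nat.card_zpowers, E.orderOf_t, pow_one]
    · rw [Nat.card_zpowers, pow_one]
      exact orderOf_dvd_of_pow_eq_one ((pow_two w).trans hww)
    · refine Subgroup.zpowers_le.2 (Subgroup.mem_normalizer_iff.2 fun y => ?_)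
      constructor
      · rintro ⟨i, rfl⟩
        refine ⟨i, ?_⟩
        show w ^ i = _
        rw [((show Commute E.t w from htw).zpow_right i).eq, mul_inv_cancel_right]
      · rintro ⟨i, hi⟩
        refine ⟨i, ?_⟩
        have h1 : w ^ i = E.t * y * E.t⁻¹ := hi
        show w ^ i = y
        calc w ^ i = E.t⁻¹ * (E.t * w ^ i) := (inv_mul_cancel_left _ _).symm
          _ = E.t⁻¹ * (w ^ i * E.t) := by rw [((show Commute E.t w from htw).zpow_right i).eq]
          _ = y := by rw [h1]; group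
  have hAcop : (Nat.card A).Coprime (Nat.card O) := by
    obtain ⟨k, hk⟩ := hA2.exists_card_eq
    rw [hk]
    exact (Nat.coprime_two_left.2 hOodd).pow_left k
  haveI : Group.IsNilpotent A := hA2.isNilpotent
  -- odd elements commuting with `t`
  have hOt : ∀ y ∈ O, y * E.t = E.t * y → ∃ l ∈ tor D.g₁, y = E.ι l := by
    intro y hy hyt
    obtain ⟨hyX, hyo⟩ := (hOmem y).1 hy
    obtain ⟨l, hl, -⟩ := exists_ι_of_odd c.hyp hyt hyo (pow_orderOf_eq_one y)
    obtain ⟨l', hl', e⟩ := c.ι_torus_of_commute D ha ha1 hyt ((hmem _).1 hyX)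
    refine ⟨l', hl', e.resolve_right fun e' => E.ι_eq_t_mul_iff (hl.symm.trans e')⟩
  -- primes of `O` not dividing `u`
  have hprime : ∀ ℓ : ℕ, ℓ.Prime → ℓ ∣ Nat.card O → ℓ ∣ uOf F := by
    intro ℓ hℓ hℓO
    by_contra hℓu
    haveI := Fact.mk hℓ
    have hℓ2 : ℓ ≠ 2 := fun e => hOodd.not_two_dvd_nat (e ▸ hℓO)
    by_cases hr : ℓ ∣ rOf F
    · obtain ⟨⟨y, hy⟩, hyo⟩ := exists_prime_orderOf_dvd_card' (G := O) ℓ hℓO
      rw [Subgroup.orderOf_mk] at hyo
      have h1 := c.dvd_four_r D hℓ hr hyo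
        ((hmem y).1 (Subgroup.map_subtype_le _ hy)).symm
      rw [orderOf_injective E.ι E.inj, ← c.four_r] at h1
      have h4 : Nat.Coprime (4 * rOf F) (uOf F) :=
        Nat.Coprime.mul_left (Nat.Coprime.pow_left 2 (Nat.coprime_two_left.2 (odd_u c.hyp.mod8)))
          (coprime_r_u c.hyp.mod8)
      exact ha1 (orderOf_eq_one_iff.1 (Nat.eq_one_of_dvd_coprimes h4 h1
        (orderOf_dvd_of_pow_eq_one (c.pow_u D ha))))
    have hcases : ℓ = 3 ∨ ℓ ∣ gOf F := by
      have hd := hℓO.trans (Subgroup.card_subgroup_dvd_card O)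
      rw [c.card_eq] at hd
      rcases hℓ.dvd_mul.1 hd with h | h
      · exact Or.inl (c.eq_three hℓ (hℓ.dvd_of_dvd_pow h))
      rcases hℓ.dvd_mul.1 h with h | h
      · exact Or.inr h
      exfalso
      rw [← c.four_r, show Fintype.card F - 1 = 2 * uOf F by have := c.two_u; omega] at h
      rcases hℓ.dvd_mul.1 h with h | h <;> rcases hℓ.dvd_mul.1 h with h | h
      · exact hℓ2 ((Nat.prime_dvd_prime_iff_eq hℓ Nat.prime_two).1
          (hℓ.dvd_of_dvd_pow (show ℓ ∣ 2 ^ 2 from h)))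
      · exact hr h
      · exact hℓ2 ((Nat.prime_dvd_prime_iff_eq hℓ Nat.prime_two).1 h)
      · exact hℓu h
    obtain ⟨P', hP'⟩ := Coprime.exists_invariant_sylow hAO hAcop
      (Or.inl inferInstance) ℓ
    set P := (P' : Subgroup O).map O.subtype with hP
    have hPO : P ≤ O := Subgroup.map_subtype_le _
    have hPp : IsPGroup ℓ P := P'.2.map _
    have hconj : ∀ v ∈ A, v * v = 1 → ∀ y ∈ P, v * y * v ∈ P := fun v hv hvv y hy => by
      have h := (Subgroup.mem_normalizer_iff.1 (hP' hv) y).1 hy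
      rwa [inv_eq_of_mul_eq_one_right hvv] at h
    have hord : ∀ y ∈ P, ∀ d : ℕ, ¬ ℓ ∣ d → y ^ d = 1 → y = 1 := by
      intro y hy d hd hyd
      obtain ⟨k, hk⟩ := hPp ⟨y, hy⟩
      have hk' : y ^ ℓ ^ k = 1 := congrArg Subtype.val hk
      exact orderOf_eq_one_iff.1 (Nat.eq_one_of_dvd_coprimes
        (((hℓ.coprime_iff_not_dvd).2 hd).pow_left k)
        (orderOf_dvd_of_pow_eq_one hk') (orderOf_dvd_of_pow_eq_one hyd))
    have hPt : ∀ y ∈ P, y * E.t = E.t * y → y = 1 := by
      intro y hy hyt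
      obtain ⟨l, hl, rfl⟩ := hOt y (hPO hy) hyt
      exact hord _ hy _ hℓu (by rw [← map_pow, c.pow_u D hl, map_one])
    -- centralizers of the other involutions
    have hPv : ∀ v : J, v ≠ 1 → v * v = 1 → E.t * v = v * E.t → v ∈ A →
        ∀ y ∈ P, y * v = v * y → y = 1 := by
      intro v hv1 hvv htv hvA y hy hyv
      obtain ⟨g, hg⟩ := exists_to_t c.hyp hv1 hvv
      have hconj' : ∀ z ∈ P, z * v = v * z → ∃ l : PST, g * z * g⁻¹ = E.ι l := by
        intro z hz hzv
        obtain ⟨l, hl, -⟩ := exists_ι_of_odd c.hyp (x := g * z * g⁻¹) (by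
          rw [← hg]; exact (commute_conj_iff.2 hzv).eq) (((hOmem z).1 (hPO hz)).2)
          (by rw [← orderOf_conj' z g]; exact pow_orderOf_eq_one _)
        exact ⟨l, hl⟩
      rcases hcases with hℓ3 | hℓg
      · refine hPt y hy ?_
        by_contra hne
        have hty := hconj E.t (Subgroup.mem_sup_left (Subgroup.mem_zpowers _)) E.sq y hy
        set z := y⁻¹ * (E.t * y * E.t) with hz
        have hzP : z ∈ P := mul_mem (inv_mem hy) hty
        have hzv : z * v = v * z := by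
          have h1 : Commute v E.t := htv.symm
          have h2 : Commute v y := hyv.symm
          exact (h2.inv_right.mul_right ((h1.mul_right h2).mul_right h1)).eq.symm
        have hzt : E.t * z * E.t⁻¹ = z⁻¹ := by
          rw [hz, E.t_inv, _root_.mul_inv_rev, _root_.mul_inv_rev, _root_.mul_inv_rev, inv_inv, E.t_inv]
          simp only [mul_assoc, E.sq, mul_one]
        have hz1 : z ≠ 1 := fun e => hne (by
          rw [hz, inv_mul_eq_one] at e
          conv_lhs => rw [e]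
          rw [mul_assoc, E.sq, mul_one])
        obtain ⟨l, hl⟩ := hconj' z hzP hzv
        obtain ⟨k, hk⟩ := E.cent (g * E.t * g⁻¹) (by
          have h := (commute_conj_iff (g := g)).2 (show Commute E.t v from htv)
          rw [hg] at h
          exact h.eq)
        have hkk : k * k = 1 := E.inj (by
          rw [map_mul, map_one]
          have h2 : g * E.t * g⁻¹ * (g * E.t * g⁻¹) = 1 := by
            rw [show g * E.t * g⁻¹ * (g * E.t * g⁻¹) = g * (E.t * E.t) * g⁻¹ by group, E.sq,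
              mul_one, mul_inv_cancel]
          rcases hk with e | e <;> rw [e] at h2
          · exact h2
          · rw [mul_assoc E.t, ← mul_assoc (E.ι k), ← E.comm k, mul_assoc E.t (E.ι k), ← mul_assoc,
              E.sq, one_mul] at h2
            exact h2)
        have hkl : k * l * k⁻¹ = l⁻¹ := E.inj (by
          rw [← E.conj_ι hk l, map_inv, ← hl]
          calc g * E.t * g⁻¹ * (g * z * g⁻¹) * (g * E.t * g⁻¹)⁻¹
              = g * (E.t * z * E.t⁻¹) * g⁻¹ := by group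
            _ = (g * z * g⁻¹)⁻¹ := by rw [hzt]; group)
        obtain ⟨i, hi⟩ := hPp ⟨z, hzP⟩
        have hi' : z ^ ℓ ^ i = 1 := congrArg Subtype.val hi
        haveI : Fact (Nat.Prime 3) := ⟨Nat.prime_three⟩
        obtain ⟨n, hn⟩ := exists_conj_subQ c.hyp.mod8 (ℓ := 3) c.three_dvd (x := l) (j := i) (E.inj (by
          rw [map_pow, map_one, ← hl, conj_pow, ← hℓ3, hi', mul_one, mul_inv_cancel]))
        refine c.odd_inverting hn (fun e => hz1 ?_) (l := n * k * n⁻¹)
          (by rw [show n * k * n⁻¹ * (n * k * n⁻¹) = n * (k * k) * n⁻¹ by group, hkk, mul_one,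
            mul_inv_cancel]) ?_
        · rw [conj_eq_one_iff] at e
          rw [e, map_one, conj_eq_one_iff] at hl
          exact hl
        · calc n * k * n⁻¹ * (n * l * n⁻¹) * (n * k * n⁻¹)⁻¹ = n * (k * l * k⁻¹) * n⁻¹ := by group
            _ = (n * l * n⁻¹)⁻¹ := by rw [hkl]; group
      · refine hord y hy _ (fun h => c.not_dvd_g hℓ h hℓg) ?_
        obtain ⟨l, hl⟩ := hconj' y hy hyv
        have hmemC : g * y * g⁻¹ ∈ Subgroup.centralizer ({E.t} : Set J) :=
          Subgroup.mem_centralizer_singleton_iff.2 (by rw [hl]; exact (E.comm l).symm)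
        have h1 := orderOf_dvd_natCard (⟨_, hmemC⟩ : Subgroup.centralizer ({E.t} : Set J))
        rw [Subgroup.orderOf_mk, orderOf_conj', c.natCard_cent] at h1
        exact orderOf_dvd_iff_pow_eq_one.1 h1
    have hwne : w ≠ 1 := fun e => hw₀T (by
      rw [hw] at e
      rw [E.inj (e.trans (map_one E.ι).symm)]
      exact one_mem _)
    have htwne : E.t * w ≠ 1 := fun e =>
      E.ι_eq_t_mul_iff (a := (1 : PST)) (b := w₀) ((map_one E.ι).trans e.symm)
    have hwA : w ∈ A := Subgroup.mem_sup_right (Subgroup.mem_zpowers _)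
    have htA : E.t ∈ A := Subgroup.mem_sup_left (Subgroup.mem_zpowers _)
    have htwsq : E.t * w * (E.t * w) = 1 := by
      rw [mul_assoc E.t, ← mul_assoc w, ← htw, mul_assoc E.t w, hww, mul_one, E.sq]
    have hbot := le_of_four P (hOodd.of_dvd_nat (Subgroup.card_dvd_of_le hPO)) E.sq hww htw
      (hconj _ htA E.sq) (hconj _ hwA hww) ⊥
      (fun y hy e => Subgroup.mem_bot.2 (hPt y hy e))
      (fun y hy e => Subgroup.mem_bot.2 (hPv w hwne hww htw hwA y hy e))
      (fun y hy e => Subgroup.mem_bot.2 (hPv _ htwne htwsq (by rw [mul_assoc, ← htw])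
        (mul_mem htA hwA) y hy e))
      (fun y hy => by rw [Subgroup.mem_bot.1 hy]; simp)
    have hP1 : (P' : Subgroup O) = ⊥ :=
      (Subgroup.map_eq_bot_iff_of_injective _ O.subtype_injective).1 (le_bot_iff.1 hbot)
    exact P'.ne_bot_of_dvd_card hℓO hP1
  -- hence `O` is the torus
  have hOdvd : Nat.card O ∣ uOf F := by
    have hd := Subgroup.card_subgroup_dvd_card O
    rw [c.card_eq, ← c.four_r, show Fintype.card F - 1 = 2 * uOf F by have := c.two_u; omega,
      show Fintype.card F ^ 3 * (gOf F * (4 * rOf F * (2 * uOf F))) =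
        (Fintype.card F ^ 3 * gOf F * (8 * rOf F)) * uOf F by ring] at hd
    refine (Nat.coprime_of_dvd fun k hk hk1 hk2 => ?_).dvd_of_dvd_mul_left hd
    have hku := hprime k hk hk1
    have hkq : k ∣ Fintype.card F - 1 := by
      rw [show Fintype.card F - 1 = 2 * uOf F by have := c.two_u; omega]
      exact hku.mul_left 2
    rcases hk.dvd_mul.1 hk2 with h | h
    · rcases hk.dvd_mul.1 h with h | h
      · have e := c.eq_three hk (hk.dvd_of_dvd_pow h)
        subst e
        have := c.three_dvd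
        have := c.twentyseven_le
        omega
      · exact c.not_dvd_g hk (dvd_mul_of_dvd_right (hkq.mul_left _) _) h
    · rcases hk.dvd_mul.1 h with h | h
      · have e := (Nat.prime_dvd_prime_iff_eq hk Nat.prime_two).1
          (hk.dvd_of_dvd_pow (show k ∣ 2 ^ 3 from h))
        exact hOodd.not_two_dvd_nat (e ▸ hk1)
      · exact hk.one_lt.ne' (Nat.eq_one_of_dvd_coprimes (coprime_r_u c.hyp.mod8) h hku)
  have hTO : (tor D.g₁).map E.ι ≤ O := by
    rintro _ ⟨l, hl, rfl⟩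
    refine (hOmem _).2 ⟨(hmem _).2 ((show Commute l a from tor_comm D.htr₁ hl ha).map E.ι), ?_⟩
    rw [orderOf_injective E.ι E.inj]
    exact (odd_u c.hyp.mod8).of_dvd_nat (orderOf_dvd_of_pow_eq_one (c.pow_u D hl))
  have hOeq : (tor D.g₁).map E.ι = O := Subgroup.eq_of_le_of_card_ge hTO (by
    rw [Subgroup.card_map_of_injective E.inj, D.card₁]
    exact Nat.le_of_dvd (odd_u c.hyp.mod8).pos hOdvd)
  -- conclusion
  have hxX := (hmem x).2 hxa
  by_cases hin : (⟨x, hxX⟩ : X) ∈ O'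
  · obtain ⟨l, hl, e⟩ := hOeq.ge ⟨_, hin, rfl⟩
    exact ⟨l, hl, Or.inl e.symm⟩
  · have htO' : (⟨E.t, htX⟩ : X) ∉ O' := fun h => by
      have := ((hOmem E.t).1 ⟨_, h, rfl⟩).2
      rw [E.orderOf_t] at this
      exact absurd this (by decide)
    have h1 : (⟨E.t, htX⟩ : X) * ⟨x, hxX⟩ ∈ O' :=
      (Subgroup.mul_mem_iff_of_index_two hO'2).2 (iff_of_false htO' hin)
    obtain ⟨l, hl, e⟩ := hOeq.ge ⟨_, h1, rfl⟩
    refine ⟨l, hl, Or.inr ?_⟩
    rw [show (X.subtype (⟨E.t, htX⟩ * ⟨x, hxX⟩)) = E.t * x from rfl] at e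
    rw [e, ← mul_assoc, E.sq, one_mul]

include D in
/-- The centralizer of an element of prime order dividing `q² - q + 1`. -/
theorem centralizer_dvd {ℓ : ℕ} (hℓ : ℓ.Prime) (hℓg : ℓ ∣ gOf F) {x : J} (hx : orderOf x = ℓ) :
    Nat.card (Subgroup.centralizer ({x} : Set J)) ∣ gOf F := by
  haveI := c.hyp.simple
  refine c.dvd_g_of_coprime (Subgroup.card_subgroup_dvd_card _) fun s hs hsd hsC => ?_
  haveI := Fact.mk hs
  obtain ⟨⟨z, hz⟩, hzo⟩ := exists_prime_orderOf_dvd_card' s hsC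
  rw [Subgroup.orderOf_mk] at hzo
  have hzx : Commute z x := Subgroup.mem_centralizer_singleton_iff.1 hz
  obtain ⟨h2, h3⟩ := c.ne_two_three hℓ hℓg
  have hnot : ¬ ℓ ∣ Fintype.card F * ((Fintype.card F + 1) * (Fintype.card F - 1)) :=
    fun h => c.not_dvd_g hℓ h hℓg
  by_cases hs2 : s = 2
  · subst hs2
    obtain ⟨g, hg⟩ := exists_to_t c.hyp (s := z)
      (fun e => by rw [e, orderOf_one] at hzo; omega)
      (by rw [← pow_two, ← hzo, pow_orderOf_eq_one])
    have hmem : g * x * g⁻¹ ∈ Subgroup.centralizer ({E.t} : Set J) :=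
      Subgroup.mem_centralizer_singleton_iff.2 (by
        rw [← hg]; exact (commute_conj_iff.2 hzx.symm).eq)
    have h1 := orderOf_dvd_natCard (⟨_, hmem⟩ : Subgroup.centralizer ({E.t} : Set J))
    rw [Subgroup.orderOf_mk, orderOf_conj', hx, c.natCard_cent] at h1
    exact hnot h1
  rcases hs.dvd_mul.1 hsd with h | h
  · refine Walter.not_commute_three c.two c.one_le c.card_F E.orderOf_t E.centEquiv hℓ h2 hℓg ?_
      (hzo.trans (c.eq_three hs h)) hx hzx
    rwa [show Fintype.card F ^ 2 - 1 = (Fintype.card F + 1) * (Fintype.card F - 1) by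
      rw [← Nat.sq_sub_sq, one_pow]]
  rcases hs.dvd_mul.1 h with h | h
  · have hsr : s ∣ rOf F := by
      rw [← c.four_r] at h
      exact (hs.dvd_mul.1 h).resolve_left fun h4 => hs2
        ((Nat.prime_dvd_prime_iff_eq hs Nat.prime_two).1
          (hs.dvd_of_dvd_pow (show s ∣ 2 ^ 2 from h4)))
    have h1 := c.dvd_four_r D hs hsr hzo hzx.symm
    rw [hx] at h1
    exact hnot (dvd_mul_of_dvd_right (h1.mul_right _) _)
  · have hsu : s ∣ uOf F := by
      rw [show Fintype.card F - 1 = 2 * uOf F by have := c.two_u; omega] at h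
      exact (hs.dvd_mul.1 h).resolve_left fun h4 =>
        hs2 ((Nat.prime_dvd_prime_iff_eq hs Nat.prime_two).1 h4)
    have hsq : ¬ s ∣ Fintype.card F := fun hq => by
      have e := c.eq_three hs hq
      subst e
      have := c.twentyseven_le
      omega
    have hs3 : s ≠ 3 := fun e => hsq (e ▸ c.three_dvd)
    have hsg : ¬ s ∣ gOf F := c.not_dvd_g hs (dvd_mul_of_dvd_right (h.mul_left _) _)
    obtain ⟨g, l, hgl, hl⟩ := c.exists_conj_ι hs hs2 hs3 hsg hzo
    have hsr : ¬ s ∣ rOf F := fun hr =>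
      hs.one_lt.ne' (Nat.eq_one_of_dvd_coprimes (coprime_r_u c.hyp.mod8) hr hsu)
    obtain ⟨k, hk⟩ := exists_conj_tor_u c.hyp.mod8 D.card₁ hs2 hsq hsr (x := l) (j := 1)
      (by rw [pow_one, ← hl, pow_orderOf_eq_one])
    have hkl1 : k * l * k⁻¹ ≠ 1 := fun e => by
      rw [conj_eq_one_iff] at e
      rw [e, orderOf_one] at hl
      exact hs.one_lt.ne hl
    obtain ⟨b, hb, hxb⟩ := c.mem_of_commute_tor D hk hkl1 (x := E.ι k * g * x * (E.ι k * g)⁻¹) (by
      rw [map_mul, map_mul, map_inv, ← hgl,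
        show E.ι k * (g * z * g⁻¹) * (E.ι k)⁻¹ = E.ι k * g * z * (E.ι k * g)⁻¹ by group]
      exact commute_conj_iff.2 hzx.symm)
    have hp : (E.ι k * g * x * (E.ι k * g)⁻¹) ^ (2 * uOf F) = 1 := by
      rcases hxb with e | e <;> rw [e]
      · rw [pow_mul', ← map_pow, c.pow_u D hb, map_one, one_pow]
      · rw [(show Commute E.t (E.ι b) from E.comm b).mul_pow, pow_mul, pow_mul', pow_two E.t, E.sq,
          one_pow, one_mul, ← map_pow, c.pow_u D hb, map_one, one_pow]
    have h1 := orderOf_dvd_of_pow_eq_one hp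
    rw [orderOf_conj', hx, show 2 * uOf F = Fintype.card F - 1 by have := c.two_u; omega] at h1
    exact hnot (dvd_mul_of_dvd_right (h1.mul_left _) _)

end TorusCtx

end CfsgLib.JankoThompson
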