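import Cfsg.Agent.Walter.FieldAut.TorusCent

/-!
# Groups of Ree order: the multiplicities on `⟨t⟩ × T`

`vU τ` is twice the multiplicity of a character `τ` of the torus `T` of order `(q - 1) / 2` on
`⟨t⟩ × T` less that of the trivial one.  Its norm is twelve, so it shows that the two characters of
the short column of `τ` vanish at an element of odd order that is not conjugate into `T` and where
the named characters have their generic values.
-/

set_option autoImplicit false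
set_option linter.style.haveILetI false
set_option linter.unusedSectionVars false
set_option maxHeartbeats 1000000

namespace CfsgLib.JankoThompson

open Matrix CfsgLib.ReeTypeS3
open scoped MatrixGroups ComplexConjugate

universe u

variable {J : Type u} [Group J] [Fintype J] {F : Type} [Field F] [Fintype F]

local notation "PST" => Matrix.ProjectiveSpecialLinearGroup (Fin 2) F

noncomputable local instance (priority := high) instFintypePSTTorusPair :
    Fintype (Matrix.ProjectiveSpecialLinearGroup (Fin 2) F) := Fintype.ofFinite _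

noncomputable local instance (priority := high) instFintypeSubTorusPair
    (H : Subgroup (Matrix.ProjectiveSpecialLinearGroup (Fin 2) F)) : Fintype H := Fintype.ofFinite _

variable {E : Emb J (Matrix.ProjectiveSpecialLinearGroup (Fin 2) F)} {m : ℕ}

namespace Dat

variable (D : Dat E)

theorem exists_zU_int (τ : tor D.g₁ →* ℂˣ) : ∃ z : Cfsg.IrrCharacter J → ℤ,
    ∀ χ : Cfsg.IrrCharacter J, avg (χ : J → ℂ) (E.ι.comp (tor D.g₁).subtype) τ 1 = (z χ : ℂ) ∧
      (2 : ℤ) ∣ z χ - Pz E (tor D.g₁) τ χ := by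
  have h : ∀ χ : Cfsg.IrrCharacter J, ∃ z : ℤ,
      avg (χ : J → ℂ) (E.ι.comp (tor D.g₁).subtype) τ 1 = (z : ℂ) ∧
      (2 : ℤ) ∣ z - Pz E (tor D.g₁) τ χ := fun χ => by
    obtain ⟨n, hn⟩ := avg_int_parity (Characters.isCharacter_of_isIrr χ.2)
      (E.ι.comp (tor D.g₁).subtype) τ
    obtain ⟨z, hz, hz2⟩ := hn 1 (one_mul 1) fun h => by rw [one_mul, mul_one]
    obtain ⟨z', hz', hz'2⟩ := hn E.t E.sq fun h => E.comm _
    refine ⟨z, hz, ?_⟩
    have e : Pz E (tor D.g₁) τ χ = z' := by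
      have := cast_Pz E (tor D.g₁) τ χ
      rw [P, hz'] at this
      exact_mod_cast this
    rw [e]
    simpa using dvd_sub hz2 hz'2
  choose z hz using h
  exact ⟨z, hz⟩

/-- The multiplicity of a character of the odd torus. -/
noncomputable def zU (τ : tor D.g₁ →* ℂˣ) : Cfsg.IrrCharacter J → ℤ := (D.exists_zU_int τ).choose

/-- The multiplicity less that of the trivial character. -/
noncomputable def wU (τ : tor D.g₁ →* ℂˣ) : Cfsg.IrrCharacter J → ℤ :=
  fun χ => D.zU τ χ - D.zU 1 χ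

/-- Twice the multiplicity on `⟨t⟩ × T` less that of the trivial character. -/
noncomputable def vU (τ : tor D.g₁ →* ℂˣ) : Cfsg.IrrCharacter J → ℤ :=
  fun χ => D.wU τ χ + D.vZ τ χ - D.vZ 1 χ

theorem cast_wU (τ : tor D.g₁ →* ℂˣ) (χ : Cfsg.IrrCharacter J) :
    (D.wU τ χ : ℂ) = (uOf F : ℂ)⁻¹ *
      ∑ a : tor D.g₁, (χ : J → ℂ) (E.ι (a : PST)) * ((((τ a)⁻¹ : ℂˣ) : ℂ) - 1) := by
  rw [wU, Int.cast_sub, zU, zU, ← ((D.exists_zU_int τ).choose_spec χ).1,
    ← ((D.exists_zU_int 1).choose_spec χ).1, avg, avg, ← mul_sub, ← Finset.sum_sub_distrib,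
    ← Nat.card_eq_fintype_card, D.card₁]
  congr 1
  refine Finset.sum_congr rfl fun a _ => ?_
  simp only [MonoidHom.comp_apply, Subgroup.coe_subtype, one_mul, MonoidHom.one_apply, inv_one,
    Units.val_one, mul_one]
  ring

theorem cast_wU_conj (τ : tor D.g₁ →* ℂˣ) (χ : Cfsg.IrrCharacter J) :
    (D.wU τ χ : ℂ) = (uOf F : ℂ)⁻¹ *
      ∑ a : tor D.g₁, conj ((χ : J → ℂ) (E.ι (a : PST))) * (((τ a : ℂˣ) : ℂ) - 1) := by
  have h := congrArg conj (D.cast_wU τ χ)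
  rw [map_intCast, map_mul, map_inv₀, map_natCast, map_sum] at h
  rw [h]
  congr 1
  refine Finset.sum_congr rfl fun a _ => ?_
  rw [map_mul, map_sub, map_one, ← conj_val_hom τ a, Complex.conj_conj]

end Dat

/-- A vector of norm two on five entries with two linear conditions. -/
theorem half_cases {y y' a b d r : ℤ} (hn : y * y + (y' * y' + (a * a + (b * b + d * d))) + r = 2)
    (hr : 0 ≤ r) (hy : y - y' = 1) (ha : a - b - d = -1) :
    r = 0 ∧ ((y = 1 ∧ y' = 0) ∨ (y = 0 ∧ y' = -1)) ∧ (a * a + (b * b + d * d) = 1) := by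
  obtain rfl : y = y' + 1 := by linarith
  obtain rfl : a = b + d - 1 := by linarith
  have h1 : 1 ≤ (y' + 1) * (y' + 1) + y' * y' := by nlinarith [mul_self_nonneg (2 * y' + 1)]
  have h2 : 1 ≤ (b + d - 1) * (b + d - 1) + (b * b + d * d) := by
    nlinarith [mul_self_nonneg (3 * (b + d) - 2), mul_self_nonneg (b - d)]
  refine ⟨by linarith, ?_, by linarith⟩
  have h3 : y' * (y' + 1) = 0 := by nlinarith
  rcases mul_eq_zero.1 h3 with e | e
  · left; omega
  · right; omega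

namespace TorusCtx

variable (c : TorusCtx E m) (D : Dat E)
include c

/-- The sum against the column of an element not conjugate into the torus. -/
theorem sum_wU (τ : tor D.g₁ →* ℂˣ) {x : J}
    (hx : ∀ a ∈ tor D.g₁, a ≠ 1 → ¬ IsConj x (E.ι a)) :
    ∑ χ : Cfsg.IrrCharacter J, (χ : J → ℂ) x * (D.wU τ χ : ℂ) = 0 := by
  simp only [D.cast_wU_conj, Finset.mul_sum]
  rw [Finset.sum_comm]
  refine Finset.sum_eq_zero fun a _ => ?_
  by_cases ha : a = 1
  · subst ha; simp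
  rw [Finset.sum_congr rfl (g := fun χ : Cfsg.IrrCharacter J =>
    ((uOf F : ℂ)⁻¹ * (((τ a : ℂˣ) : ℂ) - 1)) * ((χ : J → ℂ) x * conj ((χ : J → ℂ) (E.ι (a : PST)))))
    fun χ _ => by ring, ← Finset.mul_sum,
    Characters.sum_irr_mul_conj_of_not_isConj (hx a a.2 fun e => ha (Subtype.ext e)), mul_zero]

theorem deg_wU (τ : tor D.g₁ →* ℂˣ) : ∑ χ, D.wU τ χ * (deg χ : ℤ) = 0 := by
  have h := c.sum_wU D τ (x := 1) fun a _ ha1 => by
    rw [isConj_one_right]
    exact fun e => ha1 (E.inj (e.trans (map_one E.ι).symm))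
  have e : ((∑ χ, D.wU τ χ * (deg χ : ℤ) : ℤ) : ℂ) = 0 := by
    rw [← h, Int.cast_sum]
    refine Finset.sum_congr rfl fun χ _ => ?_
    rw [deg_spec, Int.cast_mul, Int.cast_natCast, mul_comm]
  exact_mod_cast e

theorem dot_wU (τ : tor D.g₁ →* ℂˣ) {v : Cfsg.IrrCharacter J → ℤ} (hv : Col v) :
    dotp (D.wU τ) v = 0 := by
  have h : ((dotp (D.wU τ) v : ℤ) : ℂ) = 0 := by
    rw [dotp, Int.cast_sum]
    simp only [Int.cast_mul, D.cast_wU, Finset.mul_sum, Finset.sum_mul]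
    rw [Finset.sum_comm]
    refine Finset.sum_eq_zero fun a _ => ?_
    rw [Finset.sum_congr rfl (g := fun χ : Cfsg.IrrCharacter J =>
      ((uOf F : ℂ)⁻¹ * ((((τ a)⁻¹ : ℂˣ) : ℂ) - 1)) * ((χ : J → ℂ) (E.ι (a : PST)) * (v χ : ℂ)))
      fun χ _ => by ring, ← Finset.mul_sum, hv, mul_zero]
    rw [orderOf_injective E.ι E.inj]
    exact ReeTypeS3.odd_orderOf (D.odd_g₁ c.hyp) a
  exact_mod_cast h

theorem natCard_cent_tor {a : PST} (ha : a ∈ tor D.g₁) (ha1 : a ≠ 1) :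
    Nat.card (Subgroup.centralizer ({E.ι a} : Set J)) = 2 * uOf F := by
  classical
  have hmem : ∀ (b : Bool) (l : tor D.g₁),
      (if b then E.t else 1) * E.ι (l : PST) ∈ Subgroup.centralizer ({E.ι a} : Set J) := by
    intro b l
    refine Subgroup.mem_centralizer_singleton_iff.2 ?_
    have h1 : Commute (E.ι (l : PST)) (E.ι a) :=
      (show Commute (l : PST) a from tor_comm D.htr₁ l.2 ha).map E.ι
    cases b
    · simpa using h1.eq
    · simp only [if_true]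
      exact (Commute.mul_left (show Commute E.t (E.ι a) from E.comm a) h1).eq
  let φ : Bool × tor D.g₁ → Subgroup.centralizer ({E.ι a} : Set J) := fun p => ⟨_, hmem p.1 p.2⟩
  rw [← Nat.card_eq_of_bijective φ ⟨?_, ?_⟩, Nat.card_prod, D.card₁]
  · simp
  · rintro ⟨b, l⟩ ⟨b', l'⟩ e
    have e' : (if b then E.t else 1) * E.ι (l : PST) = (if b' then E.t else 1) * E.ι (l' : PST) :=
      congrArg Subtype.val e
    cases b <;> cases b' <;> simp at e'
    · simp [Subtype.ext (E.inj e')]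
    · exact absurd e' E.ι_eq_t_mul_iff
    · exact absurd e'.symm E.ι_eq_t_mul_iff
    · simp [Subtype.ext (E.inj e')]
  · rintro ⟨x, hx⟩
    obtain ⟨l, hl, e | e⟩ := c.mem_of_commute_tor D ha ha1
      (x := x) (Subgroup.mem_centralizer_singleton_iff.1 hx)
    · exact ⟨(false, ⟨l, hl⟩), Subtype.ext (by simp [φ, e])⟩
    · exact ⟨(true, ⟨l, hl⟩), Subtype.ext (by simp [φ, e])⟩

theorem conj_tor_cases {a b : PST} (ha : a ∈ tor D.g₁) (ha1 : a ≠ 1) (hb : b ∈ tor D.g₁)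
    (hb1 : b ≠ 1) {g : J} (hg : g * E.ι a * g⁻¹ = E.ι b) : b = a ∨ b = a⁻¹ := by
  have hgt : g * E.t * g⁻¹ = E.t := by
    have hc : Commute (g * E.t * g⁻¹) (E.ι b) := by
      rw [← hg]
      exact commute_conj_iff.2 (E.comm a)
    obtain ⟨l, hl, hle⟩ := c.mem_of_commute_tor D hb hb1 hc
    have hsq : g * E.t * g⁻¹ * (g * E.t * g⁻¹) = 1 := by
      rw [show g * E.t * g⁻¹ * (g * E.t * g⁻¹) = g * (E.t * E.t) * g⁻¹ by group, E.sq, mul_one,
        mul_inv_cancel]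
    have hne : g * E.t * g⁻¹ ≠ 1 := fun e => E.t_ne_one (conj_eq_one_iff.1 e)
    have hl1 : l = 1 := c.eq_one_of_sq_u D hl (E.inj (by
      rw [map_mul, map_one]
      rcases hle with e | e <;> rw [e] at hsq
      · exact hsq
      · rw [mul_assoc E.t, ← mul_assoc (E.ι l), ← E.comm l, mul_assoc E.t (E.ι l), ← mul_assoc,
          E.sq, one_mul] at hsq
        exact hsq))
    rw [hl1, map_one, mul_one] at hle
    exact hle.resolve_left hne
  obtain ⟨k, hk⟩ := E.cent g (mul_inv_eq_iff_eq_mul.1 hgt)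
  rw [E.conj_ι hk] at hg
  have hkb := E.inj hg
  rcases torN_cases D.htr₁ (mem_torN_of_conj D.htr₁ ha ha1 (hkb.symm ▸ hb)) with h | h
  · left
    rw [← hkb, tor_comm D.htr₁ h ha, mul_inv_cancel_right]
  · right
    rw [← hkb, h a ha]

open Classical in
theorem sum_col_tor {a b : PST} (ha : a ∈ tor D.g₁) (ha1 : a ≠ 1) (hb : b ∈ tor D.g₁)
    (hb1 : b ≠ 1) : ∑ χ : Cfsg.IrrCharacter J, (χ : J → ℂ) (E.ι a) * conj ((χ : J → ℂ) (E.ι b)) =
      2 * (uOf F : ℂ) * ((if b = a then 1 else 0) + (if b = a⁻¹ then 1 else 0)) := by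
  have hne : a ≠ a⁻¹ := fun e => ha1 (c.eq_one_of_sq_u D ha (eq_inv_iff_mul_eq_one.1 e))
  by_cases h : b = a ∨ b = a⁻¹
  · have hconj : IsConj (E.ι a) (E.ι b) := by
      rcases h with e | e
      · rw [e]
      · obtain ⟨w₀, hw₀N, hw₀T, -⟩ := exists_inverting_tor D.htr₁ (two_ne c.hyp)
        rw [e, ← (torN_cases D.htr₁ hw₀N).resolve_left hw₀T a ha]
        exact isConj_iff.2 ⟨E.ι w₀, by rw [map_mul, map_mul, map_inv]⟩
    rw [Characters.sum_irr_mul_conj_of_isConj hconj, c.natCard_cent_tor D ha ha1]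
    rcases h with e | e
    · rw [if_pos e, if_neg (fun e' => hne (e.symm.trans e'))]; push_cast; ring
    · rw [if_neg (fun e' => hne (e'.symm.trans e)), if_pos e]; push_cast; ring
  · push Not at h
    rw [Characters.sum_irr_mul_conj_of_not_isConj, if_neg h.1, if_neg h.2]
    · ring
    · intro hconj
      obtain ⟨g, hg⟩ := isConj_iff.1 hconj
      exact (c.conj_tor_cases D ha ha1 hb hb1 hg).elim h.1 h.2

theorem dot_wU_self {τ : tor D.g₁ →* ℂˣ} (hτ : τ ≠ 1) : dotp (D.wU τ) (D.wU τ) = 6 := by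
  classical
  have hu : (uOf F : ℂ) ≠ 0 := Nat.cast_ne_zero.2 (by have := five_le_u c.hyp.mod8; omega)
  have hterm : ∀ a b : tor D.g₁, ((((τ a)⁻¹ : ℂˣ) : ℂ) - 1) * ((((τ b : ℂˣ)) : ℂ) - 1) *
      (∑ χ : Cfsg.IrrCharacter J, (χ : J → ℂ) (E.ι (a : PST)) * conj ((χ : J → ℂ) (E.ι (b : PST)))) =
      ((((τ a)⁻¹ : ℂˣ) : ℂ) - 1) * ((((τ b : ℂˣ)) : ℂ) - 1) *
        (2 * (uOf F : ℂ) * ((if b = a then 1 else 0) + (if b = a⁻¹ then 1 else 0))) := by
    intro a b
    by_cases ha : a = 1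
    · subst ha; simp
    by_cases hb : b = 1
    · subst hb; simp
    rw [c.sum_col_tor D a.2 (fun e => ha (Subtype.ext e)) b.2 fun e => hb (Subtype.ext e)]
    simp only [Subtype.ext_iff, Subgroup.coe_inv]
  have hsum : ∑ a : tor D.g₁, ((((τ a)⁻¹ : ℂˣ) : ℂ) - 1) *
      ((((τ a : ℂˣ) : ℂ) - 1) + ((((τ a)⁻¹ : ℂˣ) : ℂ) - 1)) = 3 * (uOf F : ℂ) := by
    have hsq : τ⁻¹ * τ⁻¹ ≠ 1 := fun e => char_ne_inv (D.odd_g₁ c.hyp) hτ (by
      rw [← inv_inv τ, inv_inv τ⁻¹, eq_comm]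
      exact eq_inv_of_mul_eq_one_left e)
    have hτ' : τ⁻¹ ≠ 1 := fun e =>
      hτ (MonoidHom.ext fun x => inv_eq_one.1 (DFunLike.congr_fun e x))
    have e : ∀ a : tor D.g₁, ((((τ a)⁻¹ : ℂˣ) : ℂ) - 1) *
        ((((τ a : ℂˣ) : ℂ) - 1) + ((((τ a)⁻¹ : ℂˣ) : ℂ) - 1)) =
        (((τ⁻¹ * τ⁻¹) a : ℂˣ) : ℂ) - 3 * (((τ⁻¹ : tor D.g₁ →* ℂˣ) a : ℂˣ) : ℂ) -
          ((τ a : ℂˣ) : ℂ) + 3 := by
      intro a
      rw [MonoidHom.mul_apply, MonoidHom.inv_apply, Units.val_mul]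
      linear_combination (Units.inv_mul (τ a) : (((τ a)⁻¹ : ℂˣ) : ℂ) * ((τ a : ℂˣ) : ℂ) = 1)
    rw [Finset.sum_congr rfl fun a _ => e a, Finset.sum_add_distrib, Finset.sum_sub_distrib,
      Finset.sum_sub_distrib, ← Finset.mul_sum, ReeTypeS3.sum_hom, ReeTypeS3.sum_hom,
      ReeTypeS3.sum_hom]
    simp only [if_neg hτ', if_neg hsq, if_neg hτ, Finset.sum_const, Finset.card_univ, nsmul_eq_mul,
      ← Nat.card_eq_fintype_card, D.card₁]
    ring
  have h : ((dotp (D.wU τ) (D.wU τ) : ℤ) : ℂ) = 6 := by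
    rw [dotp, Int.cast_sum]
    have hstep : ∀ χ : Cfsg.IrrCharacter J, ((D.wU τ χ * D.wU τ χ : ℤ) : ℂ) =
        ∑ a : tor D.g₁, ∑ b : tor D.g₁, ((uOf F : ℂ)⁻¹ ^ 2 *
          (((((τ a)⁻¹ : ℂˣ) : ℂ) - 1) * (((τ b : ℂˣ) : ℂ) - 1))) *
          ((χ : J → ℂ) (E.ι (a : PST)) * conj ((χ : J → ℂ) (E.ι (b : PST)))) := by
      intro χ
      rw [Int.cast_mul]
      nth_rewrite 1 [D.cast_wU]
      rw [D.cast_wU_conj, mul_mul_mul_comm, Finset.sum_mul_sum, Finset.mul_sum]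
      refine Finset.sum_congr rfl fun a _ => ?_
      rw [Finset.mul_sum]
      refine Finset.sum_congr rfl fun b _ => ?_
      ring
    rw [Finset.sum_congr rfl fun χ _ => hstep χ, Finset.sum_comm,
      Finset.sum_congr rfl fun a _ => Finset.sum_comm,
      Finset.sum_congr rfl (g := fun a : tor D.g₁ => ((uOf F : ℂ)⁻¹ ^ 2 * (2 * (uOf F : ℂ))) *
        (((((τ a)⁻¹ : ℂˣ) : ℂ) - 1) *
          ((((τ a : ℂˣ) : ℂ) - 1) + ((((τ a)⁻¹ : ℂˣ) : ℂ) - 1)))) fun a _ => ?_,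
      ← Finset.mul_sum, hsum]
    · field_simp
      ring
    · rw [Finset.sum_congr rfl fun b _ => (Finset.mul_sum _ _ _).symm,
        Finset.sum_congr rfl (g := fun b : tor D.g₁ => (uOf F : ℂ)⁻¹ ^ 2 *
          (((((τ a)⁻¹ : ℂˣ) : ℂ) - 1) * ((((τ b : ℂˣ)) : ℂ) - 1) *
            (2 * (uOf F : ℂ) * ((if b = a then 1 else 0) + (if b = a⁻¹ then 1 else 0)))))
          fun b _ => by rw [← hterm a b]; ring]
      simp only [mul_add, Finset.sum_add_distrib, mul_ite, mul_one, mul_zero, Finset.sum_ite_eq',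
        Finset.mem_univ, if_true, map_inv]
      ring
  exact_mod_cast h

theorem two_dvd_vU (τ : tor D.g₁ →* ℂˣ) (χ : Cfsg.IrrCharacter J) : (2 : ℤ) ∣ D.vU τ χ := by
  have h1 := ((D.exists_zU_int τ).choose_spec χ).2
  have h2 := ((D.exists_zU_int 1).choose_spec χ).2
  unfold Dat.vU Dat.wU Dat.zU Dat.vZ
  rw [c.sg_eq]
  omega

theorem wU_trivC {τ : tor D.g₁ →* ℂˣ} (hτ : τ ≠ 1) : D.wU τ (trivC J) = -1 := by
  classical
  have h : (D.wU τ (trivC J) : ℂ) = -1 := by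
    rw [D.cast_wU]
    have hτ' : τ⁻¹ ≠ 1 := fun e =>
      hτ (MonoidHom.ext fun x => inv_eq_one.1 (DFunLike.congr_fun e x))
    have e : ∀ a : tor D.g₁, (trivC J : J → ℂ) (E.ι (a : PST)) * ((((τ a)⁻¹ : ℂˣ) : ℂ) - 1) =
        (((τ⁻¹ : tor D.g₁ →* ℂˣ) a : ℂˣ) : ℂ) - 1 := fun a => one_mul _
    rw [Finset.sum_congr rfl fun a _ => e a, Finset.sum_sub_distrib, ReeTypeS3.sum_hom, if_neg hτ',
      Finset.sum_const, Finset.card_univ, ← Nat.card_eq_fintype_card, D.card₁, nsmul_eq_mul, mul_one,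
      zero_sub, mul_neg, inv_mul_cancel₀]
    exact Nat.cast_ne_zero.2 (by have := five_le_u c.hyp.mod8; omega)
  exact_mod_cast h

theorem deg_ne {χ : Cfsg.IrrCharacter J} :
    (deg χ : ℤ) ≠ (Fintype.card F : ℤ) * ((Fintype.card F : ℤ) ^ 2 - Fintype.card F + 1) - 1 := by
  intro hd
  obtain ⟨n, ρ, hρ, hχ⟩ := χ.2
  haveI := hρ
  have hn : deg χ = n := by
    have : (deg χ : ℂ) = (n : ℂ) := by
      rw [← deg_spec, ← hχ, Representation.char_one, Module.finrank_fin_fun]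
    exact_mod_cast this
  have hdvd : deg χ ∣ Nat.card J := by
    have := Characters.finrank_dvd_card ρ
    rwa [Module.finrank_fin_fun, ← hn] at this
  have hq := c.twentyseven_le
  have hodd : Odd (Fintype.card F) := Nat.odd_iff.2 (by have := c.mod_eight; omega)
  obtain ⟨j, hj⟩ := hodd
  have hsq : Fintype.card F ^ 2 + 1 = 2 * (2 * j * j + 2 * j + 1) := by rw [hj]; ring
  have hh1 : 2 * j * j + 2 * j + 1 ≠ 1 := by omega
  obtain ⟨k, hk, hkh⟩ := Nat.exists_prime_and_dvd hh1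
  have hk2 : k ≠ 2 := by
    rintro rfl
    rw [mul_assoc, ← mul_add] at hkh
    omega
  have hkZ : (k : ℤ) ∣ (Fintype.card F : ℤ) ^ 2 + 1 := by
    have := Int.natCast_dvd_natCast.2 (hkh.trans ⟨2, by rw [hsq, mul_comm]⟩ : k ∣ Fintype.card F ^ 2 + 1)
    exact_mod_cast this
  have hkd : (k : ℤ) ∣ (Nat.card J : ℤ) := by
    refine dvd_trans ?_ (Int.natCast_dvd_natCast.2 hdvd)
    rw [hd]
    exact hkZ.trans ⟨(Fintype.card F : ℤ) - 1, by ring⟩
  have hnot1 : ¬ (k : ℤ) ∣ 1 := fun e =>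
    hk.one_lt.ne' (Nat.dvd_one.1 (Int.natCast_dvd_natCast.1 e))
  have hnot2 : ¬ (k : ℤ) ∣ 2 := fun e =>
    hk2 ((Nat.prime_dvd_prime_iff_eq hk Nat.prime_two).1 (Int.natCast_dvd_natCast.1 e))
  have hp : Prime (k : ℤ) := Nat.prime_iff_prime_int.1 hk
  rw [c.card_eq] at hkd
  push_cast [show 1 ≤ Fintype.card F by omega, c.cast_g] at hkd
  have hcases : (k : ℤ) ∣ (Fintype.card F : ℤ) ^ 3 ∨
      (k : ℤ) ∣ (Fintype.card F : ℤ) ^ 2 - Fintype.card F + 1 ∨
      (k : ℤ) ∣ (Fintype.card F : ℤ) + 1 ∨ (k : ℤ) ∣ (Fintype.card F : ℤ) - 1 := by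
    rcases hp.dvd_mul.1 hkd with h | h
    · exact Or.inl h
    rcases hp.dvd_mul.1 h with h | h
    · exact Or.inr (Or.inl h)
    exact Or.inr (Or.inr (hp.dvd_mul.1 h))
  rcases hcases with h | h | h | h
  · refine hnot1 ?_
    have h1 := dvd_sub hkZ ((hp.dvd_of_dvd_pow h).mul_left (Fintype.card F : ℤ))
    rwa [show (Fintype.card F : ℤ) ^ 2 + 1 - Fintype.card F * Fintype.card F = 1 by ring] at h1
  · refine hnot1 ?_
    have h1 := dvd_sub hkZ ((dvd_sub hkZ h).mul_left (Fintype.card F : ℤ))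
    rwa [show (Fintype.card F : ℤ) ^ 2 + 1 - Fintype.card F *
      ((Fintype.card F : ℤ) ^ 2 + 1 - ((Fintype.card F : ℤ) ^ 2 - Fintype.card F + 1)) = 1 by ring] at h1
  · refine hnot2 ?_
    have h1 := dvd_sub hkZ (h.mul_left ((Fintype.card F : ℤ) - 1))
    rwa [show (Fintype.card F : ℤ) ^ 2 + 1 - ((Fintype.card F : ℤ) - 1) *
      ((Fintype.card F : ℤ) + 1) = 2 by ring] at h1
  · refine hnot2 ?_
    have h1 := dvd_sub hkZ (h.mul_left ((Fintype.card F : ℤ) + 1))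
    rwa [show (Fintype.card F : ℤ) ^ 2 + 1 - ((Fintype.card F : ℤ) + 1) *
      ((Fintype.card F : ℤ) - 1) = 2 by ring] at h1

/-- The characters of a short column of the odd torus vanish at elements of odd order outside the
torus where the named characters take their generic values. -/
theorem eq_zero_of_vZ (s : D.Std) (hvA : D.vZ 1 s.A = 1) (hvB : D.vZ 1 s.B = -1)
    (hvC : D.vZ 1 s.C = -1)
    (hdB : (deg s.B : ℤ) = (Fintype.card F : ℤ) * ((Fintype.card F : ℤ) ^ 2 - Fintype.card F + 1))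
    {x : J} (hx : Odd (orderOf x)) (hconj : ∀ a ∈ tor D.g₁, a ≠ 1 → ¬ IsConj x (E.ι a))
    (hA : (s.A : J → ℂ) x = -1) (hB : (s.B : J → ℂ) x = 0)
    {τ : tor D.g₁ →* ℂˣ} (hτ : τ ≠ 1) {χ : Cfsg.IrrCharacter J} (hχ : D.vZ τ χ ≠ 0) :
    (χ : J → ℂ) x = 0 := by
  classical
  have hyp := c.hyp
  have hodd := D.odd_g₁ hyp
  obtain ⟨Y, Y', hne, hY, hY', hdeg, hz⟩ := exists_pair deg_pos
    (by rw [D.dot_ZZ hyp, dlt_self_odd hodd hτ, mul_one]) (D.col_vZ τ).deg_orth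
  have hnd := s.nd
  obtain ⟨-, yC, -, -⟩ := s.y_at
  have hbY : ∀ i, (i = Y ∨ i = Y') → D.vZ 1 i = 0 ∧ D.vH1 i = 0 := fun i hi => by
    have hi' : D.vZ τ i ≠ 0 := by
      rcases hi with rfl | rfl <;> omega
    obtain ⟨h1, h2, -⟩ := D.base_zero_of_vZ hyp hτ hi'
    exact ⟨h1, h2⟩
  have hT1 : D.vZ 1 (trivC J) = 1 := by
    rw [D.vZ_trivC hyp, if_pos rfl, c.sg_eq, neg_neg]
  -- the half
  obtain ⟨z, hz2⟩ : ∃ z : Cfsg.IrrCharacter J → ℤ, D.vU τ = fun χ => 2 * z χ :=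
    ⟨fun χ => D.vU τ χ / 2, funext fun χ => (Int.mul_ediv_cancel' (c.two_dvd_vU D τ χ)).symm⟩
  have hzd : ∀ v, 2 * dotp z v = dotp (D.wU τ) v + dotp (D.vZ τ) v - dotp (D.vZ 1) v := fun v => by
    rw [← dotp_smul, ← hz2]
    unfold Dat.vU
    rw [dotp_sub, dotp_add]
  have d1Z : dotp (D.vZ 1) (D.vZ τ) = 0 := by rw [D.dot_ZZ hyp, dlt_one_left hτ, mul_zero]
  have dτ1 : dotp (D.vZ τ) (D.vZ 1) = 0 := by rw [D.dot_ZZ hyp, dlt_one_right hτ, mul_zero]
  have dττ : dotp (D.vZ τ) (D.vZ τ) = 2 := by rw [D.dot_ZZ hyp, dlt_self_odd hodd hτ, mul_one]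
  obtain ⟨d11, -, -, d1H, -, -⟩ := D.dot_base hyp
  have dτH : dotp (D.vZ τ) D.vH1 = 0 := by
    have := D.two_dot_vH1 hyp (D.vZ τ)
    rw [d1Z, D.dot_PZ hyp, D.dot_EZ hyp] at this
    rw [dotp_comm]; omega
  have zτ : dotp z (D.vZ τ) = 1 := by
    have := hzd (D.vZ τ)
    rw [c.dot_wU D τ (D.col_vZ τ), dττ, d1Z] at this
    omega
  have z1 : dotp z (D.vZ 1) = -2 := by
    have := hzd (D.vZ 1)
    rw [c.dot_wU D τ (D.col_vZ 1), dτ1, d11] at this
    omega
  have zH : dotp z D.vH1 = -1 := by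
    have := hzd D.vH1
    rw [c.dot_wU D τ (D.col_vH1 hyp), dτH, d1H] at this
    omega
  have zz : dotp z z = 3 := by
    have e1 := hzd z
    have e2 := hzd (D.wU τ)
    rw [dotp_comm (D.vZ τ) z, zτ, dotp_comm (D.vZ 1) z, z1, dotp_comm (D.wU τ) z] at e1
    rw [c.dot_wU_self D hτ, dotp_comm (D.vZ τ), c.dot_wU D τ (D.col_vZ τ),
      dotp_comm (D.vZ 1), c.dot_wU D τ (D.col_vZ 1)] at e2
    omega
  have ztriv : z (trivC J) = -1 := by
    have h := congrFun hz2 (trivC J)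
    unfold Dat.vU at h
    rw [c.wU_trivC D hτ, hT1, D.vZ_trivC hyp, if_neg hτ] at h
    omega
  have hzτ : z Y - z Y' = 1 := by
    rw [← zτ, dotp, ← Finset.sum_subset (Finset.subset_univ {Y, Y'}) (fun i _ hi => by
      simp only [Finset.mem_insert, Finset.mem_singleton, not_or] at hi
      rw [hz i hi.1 hi.2, mul_zero]), Finset.sum_pair hne, hY, hY']
    ring
  have hz1 : z s.A - z s.B - z s.C = -1 := by
    have h1 := s.sum_x hyp (fun χ => z χ)
    simp only [Int.cast_id] at h1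
    rw [show ∑ χ, D.vZ 1 χ * z χ = dotp z (D.vZ 1) by
      rw [dotp_comm]; rfl, z1, ztriv, hvA, hvB, hvC, c.sg_eq] at h1
    omega
  have nY : ∀ i, (i = Y ∨ i = Y') → i ≠ trivC J ∧ i ≠ s.A ∧ i ≠ s.B ∧ i ≠ s.C := by
    intro i hi
    have h0 := (hbY i hi).1
    exact ⟨fun e => by rw [e, hT1] at h0; omega, fun e => by rw [e, hvA] at h0; omega,
      fun e => by rw [e, hvB] at h0; omega, fun e => by rw [e, hvC] at h0; omega⟩
  obtain ⟨y1, y2, y3, y4⟩ := nY Y (Or.inl rfl)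
  obtain ⟨w1, w2, w3, w4⟩ := nY Y' (Or.inr rfl)
  have hnd6 : [trivC J, Y, Y', s.A, s.B, s.C].Nodup := by
    simp only [List.nodup_cons, List.mem_cons, List.not_mem_nil, List.nodup_nil, or_false,
      not_or, and_true, not_false_eq_true]
    grind
  have hle := Finset.sum_filter_add_sum_filter_not Finset.univ
    (fun χ => χ ∈ [trivC J, Y, Y', s.A, s.B, s.C]) (fun χ => z χ * z χ)
  rw [show (∑ χ, z χ * z χ) = 3 from zz,
    show Finset.univ.filter (fun χ => χ ∈ [trivC J, Y, Y', s.A, s.B, s.C]) =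
      [trivC J, Y, Y', s.A, s.B, s.C].toFinset by ext; simp, List.sum_toFinset _ hnd6] at hle
  simp only [List.map_cons, List.map_nil, List.sum_cons, List.sum_nil, ztriv] at hle
  obtain ⟨hrest, hYcase, hthree1⟩ := half_cases
    (r := ∑ χ with χ ∉ [trivC J, Y, Y', s.A, s.B, s.C], z χ * z χ) (y := z Y) (y' := z Y')
    (a := z s.A) (b := z s.B) (d := z s.C) (by linarith)
    (Finset.sum_nonneg fun i _ => mul_self_nonneg _) hzτ hz1
  have hzero : ∀ i, i ∉ [trivC J, Y, Y', s.A, s.B, s.C] → z i = 0 := fun i hi =>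
    mul_self_eq_zero.1 ((Finset.sum_eq_zero_iff_of_nonneg fun j _ => mul_self_nonneg (z j)).1 hrest i
      (Finset.mem_filter.2 ⟨Finset.mem_univ i, hi⟩))
  have hsupp : ∀ {M : Type} [CommRing M] (φ : Cfsg.IrrCharacter J → M),
      ∑ i, φ i * (z i : M) = φ (trivC J) * -1 + (φ Y * (z Y : M) + (φ Y' * (z Y' : M) +
        (φ s.A * (z s.A : M) + (φ s.B * (z s.B : M) + φ s.C * (z s.C : M))))) := by
    intro M _ φ
    rw [list_sum_eq _ hnd6 _ fun i hi => by rw [hzero i hi, Int.cast_zero, mul_zero]]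
    simp [ztriv]
  have hAB : z s.A - z s.B = -1 := by
    have h1 := hsupp (M := ℤ) D.vH1
    simp only [Int.cast_id] at h1
    rw [show ∑ i, D.vH1 i * z i = dotp z D.vH1 by rw [dotp_comm]; rfl, zH,
      (hbY Y (Or.inl rfl)).2, (hbY Y' (Or.inr rfl)).2, yC, s.valA.1, hvA, s.valB.1, hvB] at h1
    have h0 : D.vH1 (trivC J) = 0 := s.y_at.1
    rw [h0] at h1
    linarith
  have hC0 : z s.C = 0 := by omega
  have hBcase : z s.B = 0 ∨ z s.B = 1 := by
    have hA2 : z s.A = z s.B - 1 := by omega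
    rw [hA2, hC0] at hthree1
    have h3 : z s.B * (z s.B - 1) = 0 := by linarith
    rcases mul_eq_zero.1 h3 with e | e
    · exact Or.inl e
    · exact Or.inr (by omega)
  -- the values
  have hYx : (Y : J → ℂ) x = (Y' : J → ℂ) x := by
    have h := D.col_vZ τ x hx
    rw [← Finset.sum_subset (Finset.subset_univ {Y, Y'}) (fun i _ hi => by
      simp only [Finset.mem_insert, Finset.mem_singleton, not_or] at hi
      rw [hz i hi.1 hi.2, Int.cast_zero, mul_zero]), Finset.sum_pair hne, hY, hY'] at h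
    push_cast at h
    linear_combination h
  have hval : ∑ i : Cfsg.IrrCharacter J, (i : J → ℂ) x * (z i : ℂ) = 0 := by
    have h1 : ∑ i : Cfsg.IrrCharacter J, (i : J → ℂ) x * (D.vU τ i : ℂ) = 0 := by
      simp only [Dat.vU, Int.cast_sub, Int.cast_add, mul_sub, mul_add, Finset.sum_sub_distrib,
        Finset.sum_add_distrib, c.sum_wU D τ hconj, D.col_vZ τ x hx, D.col_vZ 1 x hx]
      ring
    rw [hz2] at h1
    simp only [Int.cast_mul, Int.cast_ofNat, mul_left_comm _ (2 : ℂ), ← Finset.mul_sum] at h1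
    exact (mul_eq_zero.1 h1).resolve_left two_ne_zero
  have hdegz : ∑ i : Cfsg.IrrCharacter J, (deg i : ℤ) * z i = 0 := by
    have h1 : ∑ i : Cfsg.IrrCharacter J, D.vU τ i * (deg i : ℤ) = 0 := by
      simp only [Dat.vU, sub_mul, add_mul, Finset.sum_sub_distrib, Finset.sum_add_distrib,
        c.deg_wU D τ, (D.col_vZ τ).deg_orth, (D.col_vZ 1).deg_orth]
      ring
    rw [hz2] at h1
    simp only [mul_assoc, ← Finset.mul_sum, mul_comm (z _) _] at h1
    linarith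
  rw [hsupp, hA, hB, show (trivC J : J → ℂ) x = 1 from rfl, hC0, hYx] at hval
  have hd := hsupp (M := ℤ) fun i => (deg i : ℤ)
  simp only [Int.cast_id] at hd
  rw [hdegz, deg_trivC, hC0, ← hdeg] at hd
  push_cast at hd hval
  rcases hBcase with e | e
  · have hA1 : z s.A = -1 := by omega
    rw [hA1] at hval
    have h0 : (Y' : J → ℂ) x = 0 := by
      rcases hYcase with ⟨h, h'⟩ | ⟨h, h'⟩ <;> rw [h, h'] at hval <;> push_cast at hval
      · linear_combination hval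
      · linear_combination (-1 : ℂ) * hval
    by_cases h1 : χ = Y
    · rw [h1, hYx, h0]
    by_cases h2 : χ = Y'
    · rw [h2, h0]
    exact absurd (hz χ h1 h2) hχ
  · exfalso
    have hA1 : z s.A = 0 := by omega
    rw [hA1, e, hdB] at hd
    rcases hYcase with ⟨h, h'⟩ | ⟨h, h'⟩ <;> rw [h, h'] at hd
    · have hq : (27 : ℤ) ≤ Fintype.card F := by exact_mod_cast c.twentyseven_le
      have hdp : (0 : ℤ) < deg Y := by exact_mod_cast deg_pos Y
      have hg : (1 : ℤ) ≤ (Fintype.card F : ℤ) ^ 2 - Fintype.card F + 1 := by nlinarith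
      nlinarith
    · exact c.deg_ne (χ := Y) (by linarith)

end TorusCtx

end CfsgLib.JankoThompson
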