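import Cfsg.Agent.JankoThompson.Final
import Cfsg.Agent.Walter.Setting

/-!
# Groups of Ree order: arithmetic and conjugation into an involution centralizer

`TorusCtx E m`: a simple group of order `q³ (q³ + 1) (q - 1)`, `q = 3^(2m+1)`, with an involution `E.t`
centralized by `⟨t⟩ × PSL₂(q)`.  The number `g = q² - q + 1` is prime to the order of the centralizer.
-/

set_option autoImplicit false
set_option linter.style.haveILetI false
set_option linter.unusedSectionVars false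

namespace CfsgLib.JankoThompson

open Matrix CfsgLib.ReeTypeS3
open scoped MatrixGroups

universe u

/-- The number `q² - q + 1`. -/
def gOf (F : Type) [Fintype F] : ℕ := Fintype.card F ^ 2 - Fintype.card F + 1

variable {J : Type u} [Group J] [Fintype J] {F : Type} [Field F] [Fintype F]

local notation "PST" => Matrix.ProjectiveSpecialLinearGroup (Fin 2) F

/-- The standing hypotheses. -/
structure TorusCtx (E : Emb J (Matrix.ProjectiveSpecialLinearGroup (Fin 2) F)) (m : ℕ) : Prop where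
  hyp : Hyp E
  two : Walter.TwoType J
  one_le : 1 ≤ m
  card_F : Fintype.card F = 3 ^ (2 * m + 1)
  card : Nat.card J = Fintype.card F ^ 3 * (Fintype.card F ^ 3 + 1) * (Fintype.card F - 1)

variable {E : Emb J (Matrix.ProjectiveSpecialLinearGroup (Fin 2) F)} {m : ℕ}

namespace TorusCtx

variable (c : TorusCtx E m)
include c

theorem mod_eight : Fintype.card F % 8 = 3 := by
  rw [c.card_F, pow_succ, pow_mul, Nat.mul_mod, Nat.pow_mod]; norm_num

theorem twentyseven_le : 27 ≤ Fintype.card F := by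
  rw [c.card_F]
  calc (27 : ℕ) = 3 ^ 3 := by norm_num
    _ ≤ _ := Nat.pow_le_pow_right (by norm_num) (by have := c.one_le; omega)

theorem sg_eq : sg F = -1 := by unfold sg; rw [if_pos c.mod_eight]

theorem four_r : 4 * rOf F = Fintype.card F + 1 := by
  have := c.mod_eight; unfold rOf; rw [if_pos c.mod_eight]; omega

theorem two_u : 2 * uOf F + 1 = Fintype.card F := by
  have := c.mod_eight; unfold uOf; rw [if_pos c.mod_eight]; omega

theorem three_dvd : 3 ∣ Fintype.card F := c.card_F ▸ dvd_pow_self 3 (by omega)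

theorem eq_three {ℓ : ℕ} (hℓ : ℓ.Prime) (h : ℓ ∣ Fintype.card F) : ℓ = 3 :=
  (Nat.prime_dvd_prime_iff_eq hℓ Nat.prime_three).1 (hℓ.dvd_of_dvd_pow (c.card_F ▸ h))

theorem cast_g : (gOf F : ℤ) = (Fintype.card F : ℤ) ^ 2 - Fintype.card F + 1 := by
  have : Fintype.card F ≤ Fintype.card F ^ 2 := Nat.le_self_pow two_ne_zero _
  unfold gOf; push_cast [this]; ring

theorem card_eq : Nat.card J =
    Fintype.card F ^ 3 * (gOf F * ((Fintype.card F + 1) * (Fintype.card F - 1))) := by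
  have h1 : 1 ≤ Fintype.card F := Fintype.card_pos
  have : ((Nat.card J : ℕ) : ℤ) = ((Fintype.card F ^ 3 *
      (gOf F * ((Fintype.card F + 1) * (Fintype.card F - 1))) : ℕ) : ℤ) := by
    rw [c.card]; push_cast [c.cast_g, h1]; ring
  exact_mod_cast this

theorem natCard_cent : Nat.card (Subgroup.centralizer ({E.t} : Set J)) =
    Fintype.card F * ((Fintype.card F + 1) * (Fintype.card F - 1)) := by
  rw [natCard_C c.hyp, ← c.four_r, show Fintype.card F - 1 = 2 * uOf F by have := c.two_u; omega]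
  ring

theorem index_cent : (Subgroup.centralizer ({E.t} : Set J)).index =
    Fintype.card F ^ 2 * gOf F := by
  have h := Subgroup.card_mul_index (Subgroup.centralizer ({E.t} : Set J))
  rw [c.natCard_cent, c.card_eq] at h
  refine Nat.eq_of_mul_eq_mul_left ?_ (h.trans (by ring))
  have := c.twentyseven_le
  have : 0 < Fintype.card F - 1 := by omega
  positivity

theorem not_dvd_g {ℓ : ℕ} (hℓ : ℓ.Prime)
    (h : ℓ ∣ Fintype.card F * ((Fintype.card F + 1) * (Fintype.card F - 1))) : ¬ ℓ ∣ gOf F := by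
  intro hg
  have hq1 : 1 ≤ Fintype.card F := Fintype.card_pos
  have hgZ : (ℓ : ℤ) ∣ (Fintype.card F : ℤ) ^ 2 - Fintype.card F + 1 :=
    c.cast_g ▸ Int.natCast_dvd_natCast.2 hg
  have hone : ¬ (ℓ : ℤ) ∣ 1 := fun e =>
    hℓ.one_lt.ne' (Nat.dvd_one.1 (Int.natCast_dvd_natCast.1 e))
  rcases hℓ.dvd_mul.1 h with h | h
  · refine hone ?_
    have hz := Int.natCast_dvd_natCast.2 h
    have h1 := dvd_sub hgZ (hz.mul_left ((Fintype.card F : ℤ) - 1))
    rwa [show (Fintype.card F : ℤ) ^ 2 - Fintype.card F + 1 -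
      ((Fintype.card F : ℤ) - 1) * Fintype.card F = 1 by ring] at h1
  rcases hℓ.dvd_mul.1 h with h | h
  · have hz : (ℓ : ℤ) ∣ (Fintype.card F : ℤ) + 1 := by exact_mod_cast Int.natCast_dvd_natCast.2 h
    have h3 : (ℓ : ℤ) ∣ 3 := by
      have h1 := dvd_sub hgZ (hz.mul_left ((Fintype.card F : ℤ) - 2))
      rwa [show (Fintype.card F : ℤ) ^ 2 - Fintype.card F + 1 -
        ((Fintype.card F : ℤ) - 2) * ((Fintype.card F : ℤ) + 1) = 3 by ring] at h1
    have e : ℓ = 3 := (Nat.prime_dvd_prime_iff_eq hℓ Nat.prime_three).1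
      (Int.natCast_dvd_natCast.1 h3)
    subst e
    have := c.three_dvd
    omega
  · refine hone ?_
    have hz : (ℓ : ℤ) ∣ (Fintype.card F : ℤ) - 1 := by
      have := Int.natCast_dvd_natCast.2 h
      rwa [Nat.cast_sub hq1, Nat.cast_one] at this
    have h1 := dvd_sub hgZ (hz.mul_left (Fintype.card F : ℤ))
    rwa [show (Fintype.card F : ℤ) ^ 2 - Fintype.card F + 1 -
      (Fintype.card F : ℤ) * ((Fintype.card F : ℤ) - 1) = 1 by ring] at h1

theorem coprime_cent : Nat.Coprime (gOf F)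
    (Fintype.card F * ((Fintype.card F + 1) * (Fintype.card F - 1))) :=
  Nat.coprime_of_dvd fun _ hk hg h => c.not_dvd_g hk h hg

theorem odd_g : Odd (gOf F) := by
  rw [← Nat.not_even_iff_odd, even_iff_two_dvd]
  refine fun h => c.not_dvd_g Nat.prime_two ?_ h
  exact dvd_mul_of_dvd_right (dvd_mul_of_dvd_left (by have := c.mod_eight; omega) _) _

theorem ne_two_three {ℓ : ℕ} (hℓ : ℓ.Prime) (h : ℓ ∣ gOf F) : ℓ ≠ 2 ∧ ℓ ≠ 3 :=
  ⟨fun e => c.odd_g.not_two_dvd_nat (e ▸ h),
    fun e => c.not_dvd_g hℓ (e ▸ c.three_dvd.mul_right _) h⟩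

theorem dvd_g_of_coprime {d : ℕ} (hd : d ∣ Nat.card J)
    (h : ∀ ℓ, ℓ.Prime → ℓ ∣ Fintype.card F * ((Fintype.card F + 1) * (Fintype.card F - 1)) →
      ¬ ℓ ∣ d) : d ∣ gOf F := by
  have hc : d.Coprime (Fintype.card F * ((Fintype.card F + 1) * (Fintype.card F - 1))) :=
    Nat.coprime_of_dvd fun k hk hkd hk' => h k hk hk' hkd
  rw [c.card_eq] at hd
  have h1 := (Nat.Coprime.coprime_mul_right_right hc).pow_right 3
  exact (Nat.Coprime.coprime_mul_left_right hc).dvd_of_dvd_mul_right (h1.dvd_of_dvd_mul_left hd)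

/-! ### Conjugation into `C(t)` -/

/-- An element of prime order dividing `q ± 1` is conjugate into `ι L`. -/
theorem exists_conj_ι {ℓ : ℕ} (hℓ : ℓ.Prime) (h2 : ℓ ≠ 2) (h3 : ℓ ≠ 3)
    (hd : ¬ ℓ ∣ gOf F) {y : J} (hy : orderOf y = ℓ) :
    ∃ (g : J) (l : PST), g * y * g⁻¹ = E.ι l ∧ orderOf l = ℓ := by
  haveI := Fact.mk hℓ
  have hidx : ¬ ℓ ∣ (Subgroup.centralizer ({E.t} : Set J)).index := by
    rw [c.index_cent]
    intro h
    rcases hℓ.dvd_mul.1 h with h | h
    · exact h3 (c.eq_three hℓ (hℓ.dvd_of_dvd_pow h))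
    · exact hd h
  obtain ⟨g, hg⟩ := exists_conj_mem_of_index (Subgroup.centralizer ({E.t} : Set J)) hidx
    (x := y) (j := 1) (by rw [pow_one, ← hy, pow_orderOf_eq_one])
  have ho : orderOf (g * y * g⁻¹) = ℓ := by
    rw [show g * y * g⁻¹ = MulAut.conj g y from rfl, MulEquiv.orderOf_eq, hy]
  have hpow : (g * y * g⁻¹) ^ ℓ = 1 := by
    have := pow_orderOf_eq_one (g * y * g⁻¹)
    rwa [ho] at this
  obtain ⟨l, hl, -⟩ := exists_ι_of_odd c.hyp (Subgroup.mem_centralizer_singleton_iff.1 hg)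
    (hℓ.odd_of_ne_two h2) hpow
  exact ⟨g, l, hl, by rw [← ho, hl, orderOf_injective E.ι E.inj]⟩

theorem odd_inverting {z : PST} (hz : z ∈ subQ (F := F)) (hz1 : z ≠ 1) {l : PST}
    (hl : l * l = 1) : l * z * l⁻¹ ≠ z⁻¹ := by
  intro h
  by_cases h1 : l = 1
  · rw [h1, one_mul, inv_one, mul_one, eq_inv_iff_mul_eq_one] at h
    have ho : Odd (orderOf z) := by
      have := (odd_card c.hyp.mod8).of_dvd_nat
        (show orderOf (⟨z, hz⟩ : subQ (F := F)) ∣ Fintype.card F by
          rw [← Nat.card_eq_fintype_card, ← natCard_subQ]; exact orderOf_dvd_natCard _)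
      rwa [Subgroup.orderOf_mk] at this
    exact hz1 (orderOf_eq_one_iff.1 (Nat.eq_one_of_dvd_coprimes (Nat.coprime_two_right.2 ho)
      dvd_rfl (orderOf_dvd_of_pow_eq_one ((pow_two z).trans h))))
  · have hc := natCard_inverting_subQ c.hyp.mod8 hz hz1
    rw [if_neg (by have := c.mod_eight; omega)] at hc
    haveI : Nonempty {l : PST // (l ≠ 1 ∧ l * l = 1) ∧ l * z * l⁻¹ = z⁻¹} := ⟨⟨l, ⟨h1, hl⟩, h⟩⟩
    exact absurd hc Nat.card_pos.ne'

end TorusCtx

end CfsgLib.JankoThompson
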