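import Cfsg.Agent.Walter.FieldAut.TorusPair
import Cfsg.Agent.JankoThompson.TriCase

/-!
# Groups of Ree order: the values at elements of order divisible by a prime dividing `q² - q + 1`

`exists_generic`: the named characters have degrees `q³`, `q g`, `g`, `n (q - 1) (q + 1 ± 3 n) / 2`,
`n = 3^m`, `g = q² - q + 1`.  At an element `x` of order divisible by a prime divisor `ℓ` of `g` they
take the values `-1`, `0`, `0`, and `0` or `±1`; hence the number of involutions inverting `x` is the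
factor `q ± 3 n + 1` of `g` divisible by `ℓ`.
-/

set_option autoImplicit false
set_option linter.style.haveILetI false
set_option linter.unusedSectionVars false
set_option maxHeartbeats 1000000

namespace CfsgLib.JankoThompson

open Matrix CfsgLib.ReeTypeS3
open scoped MatrixGroups

universe u

variable {J : Type u} [Group J] [Fintype J] {F : Type} [Field F] [Fintype F]

local notation "PST" => Matrix.ProjectiveSpecialLinearGroup (Fin 2) F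
local notation "qI" => (Fintype.card F : ℤ)

noncomputable local instance (priority := high) instFintypePSTTorusValues :
    Fintype (Matrix.ProjectiveSpecialLinearGroup (Fin 2) F) := Fintype.ofFinite _

noncomputable local instance (priority := high) instFintypeSubTorusValues
    (H : Subgroup (Matrix.ProjectiveSpecialLinearGroup (Fin 2) F)) : Fintype H := Fintype.ofFinite _

/-- The larger factor of `q² - q + 1`. -/
def cPlus (F : Type) [Fintype F] (m : ℕ) : ℕ := Fintype.card F + 1 + 3 * 3 ^ m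

/-- The smaller factor of `q² - q + 1`. -/
def cMinus (F : Type) [Fintype F] (m : ℕ) : ℕ := Fintype.card F + 1 - 3 * 3 ^ m

theorem count_base {q g : ℚ} (hq : q ≠ 0) (hp1 : q + 1 ≠ 0) (hm1 : q - 1 ≠ 0) (hg : g ≠ 0)
    (hgq : g = q ^ 2 - q + 1) :
    (q / ((q + 1) / 4) - 1) * ((q + 1) * (q - 1) / (q * g)) - (1 / q - q / g) =
      (q - 1) ^ 2 / 4 * (12 / ((q - 1) * g)) := by
  field_simp
  rw [hgq]
  ring

theorem count_eq {q n P : ℂ} (hn : n ≠ 0) (hqn : q = 3 * (n * n)) (hp1 : q + 1 ≠ 0)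
    (hm1 : q - 1 ≠ 0) (hp : q + 1 + 3 * n ≠ 0) (hm : q + 1 - 3 * n ≠ 0)
    (h : 1 - 1 / q + (q - 1) / (n * (q + 1 - 3 * n)) =
      P * ((q + 1) * (q - 1) / (q * ((q + 1 + 3 * n) * (q + 1 - 3 * n))))) :
    P = q + 1 + 3 * n := by
  have hq : q ≠ 0 := by rw [hqn]; exact mul_ne_zero (by norm_num) (mul_ne_zero hn hn)
  have e1 : 1 - 1 / q + (q - 1) / (n * (q + 1 - 3 * n)) =
      1 * ((q + 1) * (q - 1) / (q * (q + 1 - 3 * n))) := by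
    obtain ⟨d, hd⟩ : ∃ d, d = q + 1 - 3 * n := ⟨_, rfl⟩
    rw [← hd] at hm ⊢
    field_simp
    rw [hd, hqn]
    ring
  have e2 : P * ((q + 1) * (q - 1) / (q * ((q + 1 + 3 * n) * (q + 1 - 3 * n)))) =
      P / (q + 1 + 3 * n) * ((q + 1) * (q - 1) / (q * (q + 1 - 3 * n))) := by
    rw [div_mul_div_comm, mul_div_assoc' P, mul_left_comm q]
  rw [e1, e2] at h
  exact (div_eq_one_iff_eq hp).1 (mul_right_cancel₀
    (div_ne_zero (mul_ne_zero hp1 hm1) (mul_ne_zero hq hm)) h.symm)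

theorem count_plus {q n P : ℂ} (hn : n ≠ 0) (hqn : q = 3 * (n * n)) (hp1 : q + 1 ≠ 0)
    (hm1 : q - 1 ≠ 0) (hp : q + 1 + 3 * n ≠ 0) (hm : q + 1 - 3 * n ≠ 0)
    (h : 1 * (1 ^ 2 / 1) + (-1 * ((1 * q) ^ 2 / q ^ 3) + (0 + (0 +
      (0 * ((-1 * (2 * ((q + 1) / 4) + -1)) ^ 2 / (n * (q - 1) * (q + 1 + 3 * n) / 2)) +
        (1 * ((1 * (2 * ((q + 1) / 4) + -1)) ^ 2 / (n * (q - 1) * (q + 1 - 3 * n) / 2)) +
          (0 * ((-1 * (2 * ((q + 1) / 4) + -1)) ^ 2 / (n * (q - 1) * (q + 1 + 3 * n) / 2)) +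
            (1 * ((1 * (2 * ((q + 1) / 4) + -1)) ^ 2 / (n * (q - 1) * (q + 1 - 3 * n) / 2)) +
              0))))))) = P * ((q + 1) * (q - 1) / (q * ((q + 1 + 3 * n) * (q + 1 - 3 * n))))) :
    P = q + 1 + 3 * n := by
  have hq : q ≠ 0 := by rw [hqn]; exact mul_ne_zero (by norm_num) (mul_ne_zero hn hn)
  refine count_eq hn hqn hp1 hm1 hp hm ?_
  rw [← h]
  obtain ⟨d, hd⟩ : ∃ d, d = q + 1 - 3 * n := ⟨_, rfl⟩
  obtain ⟨d', hd'⟩ : ∃ d', d' = q + 1 + 3 * n := ⟨_, rfl⟩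
  rw [← hd, ← hd'] at *
  field_simp
  ring

theorem count_minus {q n P : ℂ} (hn : n ≠ 0) (hqn : q = 3 * (n * n)) (hp1 : q + 1 ≠ 0)
    (hm1 : q - 1 ≠ 0) (hp : q + 1 + 3 * n ≠ 0) (hm : q + 1 - 3 * n ≠ 0)
    (h : 1 * (1 ^ 2 / 1) + (-1 * ((1 * q) ^ 2 / q ^ 3) + (0 + (0 +
      (-1 * ((-1 * (2 * ((q + 1) / 4) + -1)) ^ 2 / (n * (q - 1) * (q + 1 + 3 * n) / 2)) +
        (0 * ((1 * (2 * ((q + 1) / 4) + -1)) ^ 2 / (n * (q - 1) * (q + 1 - 3 * n) / 2)) +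
          (-1 * ((-1 * (2 * ((q + 1) / 4) + -1)) ^ 2 / (n * (q - 1) * (q + 1 + 3 * n) / 2)) +
            (0 * ((1 * (2 * ((q + 1) / 4) + -1)) ^ 2 / (n * (q - 1) * (q + 1 - 3 * n) / 2)) +
              0))))))) = P * ((q + 1) * (q - 1) / (q * ((q + 1 + 3 * n) * (q + 1 - 3 * n))))) :
    P = q + 1 - 3 * n := by
  have hq : q ≠ 0 := by rw [hqn]; exact mul_ne_zero (by norm_num) (mul_ne_zero hn hn)
  have e : q + 1 - 3 * n = q + 1 + 3 * -n := by ring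
  have e' : q + 1 + 3 * n = q + 1 - 3 * -n := by ring
  rw [e]
  refine count_eq (neg_ne_zero.2 hn) (by rw [hqn]; ring) hp1 hm1 (e ▸ hm) (e' ▸ hp) ?_
  rw [← e, ← e', mul_comm (q + 1 - 3 * n), ← h]
  obtain ⟨d, hd⟩ : ∃ d, d = q + 1 - 3 * n := ⟨_, rfl⟩
  obtain ⟨d', hd'⟩ : ∃ d', d' = q + 1 + 3 * n := ⟨_, rfl⟩
  rw [← hd, ← hd'] at *
  field_simp
  ring

variable {E : Emb J (Matrix.ProjectiveSpecialLinearGroup (Fin 2) F)} {m : ℕ}

/-- The degrees of the named characters. -/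
structure Generic (D : Dat E) (s : D.Std) (hyp : Hyp E) (m : ℕ) : Prop where
  vA : D.vZ 1 s.A = 1
  vB : D.vZ 1 s.B = -1
  vC : D.vZ 1 s.C = -1
  dA : (deg s.A : ℤ) = qI ^ 3
  dB : (deg s.B : ℤ) = qI * (qI ^ 2 - qI + 1)
  dC : (deg s.C : ℤ) = qI ^ 2 - qI + 1
  orbit : ∀ μ : D.c.Cr →* ℂˣ, μ ≠ 1 → ∀ o : D.Orb hyp μ,
    (o.f : ℤ) = (qI - 1) * (qI ^ 2 - qI + 1)
  vP : D.vH1 s.P = -1
  vR : D.vH1 s.R = 1
  vP2 : D.vH2 s.P2 = -1
  vR2 : D.vH2 s.R2 = 1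
  dP : 2 * (deg s.P : ℤ) = 3 ^ m * (qI - 1) * (qI + 1 + 3 * 3 ^ m)
  dR : 2 * (deg s.R : ℤ) = 3 ^ m * (qI - 1) * (qI + 1 - 3 * 3 ^ m)
  dP2 : 2 * (deg s.P2 : ℤ) = 3 ^ m * (qI - 1) * (qI + 1 + 3 * 3 ^ m)
  dR2 : 2 * (deg s.R2 : ℤ) = 3 ^ m * (qI - 1) * (qI + 1 - 3 * 3 ^ m)

namespace TorusCtx

variable (c : TorusCtx E m)
include c

theorem q_eq_n : qI = 3 * ((3 : ℤ) ^ m * 3 ^ m) := by
  rw [c.card_F]; push_cast; ring

theorem three_n_le : 3 * 3 ^ m ≤ Fintype.card F := by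
  rw [c.card_F, show 3 * 3 ^ m = 3 ^ (m + 1) by ring]
  exact Nat.pow_le_pow_right (by norm_num) (by omega)

theorem cast_cMinus : (cMinus F m : ℤ) = qI + 1 - 3 * 3 ^ m := by
  have := c.three_n_le
  unfold cMinus
  rw [Nat.cast_sub (by omega)]
  push_cast; ring

theorem cPlus_mul_cMinus : cPlus F m * cMinus F m = gOf F := by
  have : ((cPlus F m * cMinus F m : ℕ) : ℤ) = (gOf F : ℤ) := by
    rw [Nat.cast_mul, c.cast_cMinus, c.cast_g]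
    unfold cPlus
    push_cast
    linear_combination (3 : ℤ) * c.q_eq_n
  exact_mod_cast this

theorem not_dvd_both {ℓ : ℕ} (hℓ : ℓ.Prime) (hg : ℓ ∣ gOf F) :
    ¬ (ℓ ∣ cPlus F m ∧ ℓ ∣ cMinus F m) := by
  rintro ⟨h1, h2⟩
  obtain ⟨h2', h3'⟩ := c.ne_two_three hℓ hg
  have h6 : (ℓ : ℤ) ∣ 6 * 3 ^ m := by
    have h := dvd_sub (Int.natCast_dvd_natCast.2 h1) (Int.natCast_dvd_natCast.2 h2)
    rw [c.cast_cMinus] at h
    unfold cPlus at h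
    push_cast at h
    rwa [show qI + 1 + 3 * 3 ^ m - (qI + 1 - 3 * 3 ^ m) = 6 * 3 ^ m by ring] at h
  have h6' : ℓ ∣ 2 * 3 * 3 ^ m := by exact_mod_cast h6
  rcases hℓ.dvd_mul.1 h6' with h | h
  · rcases hℓ.dvd_mul.1 h with h | h
    · exact h2' ((Nat.prime_dvd_prime_iff_eq hℓ Nat.prime_two).1 h)
    · exact h3' ((Nat.prime_dvd_prime_iff_eq hℓ Nat.prime_three).1 h)
  · exact h3' ((Nat.prime_dvd_prime_iff_eq hℓ Nat.prime_three).1 (hℓ.dvd_of_dvd_pow h))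

theorem Kq_eq : Kq E = ((qI : ℚ) + 1) * ((qI : ℚ) - 1) / ((qI : ℚ) * ((qI : ℚ) ^ 2 - qI + 1)) := by
  have hq : (27 : ℚ) ≤ (qI : ℚ) := by exact_mod_cast c.twentyseven_le
  unfold Kq
  rw [c.natCard_cent, c.card_eq]
  have hg : ((gOf F : ℕ) : ℚ) = (qI : ℚ) ^ 2 - qI + 1 := by
    rw [← show ((gOf F : ℤ) : ℚ) = ((gOf F : ℕ) : ℚ) from Int.cast_natCast _, c.cast_g]
    push_cast; ring
  have hg0 : (qI : ℚ) ^ 2 - qI + 1 ≠ 0 := by nlinarith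
  push_cast [show 1 ≤ Fintype.card F from Fintype.card_pos, hg]
  push_cast at hq hg0
  field_simp

/-- The two private characters of a base column. -/
theorem sorted {X Y : ℤ} (hX : X ≠ 0) (hY : Y ≠ 0) (hsum : X + Y = -(qI * (qI - 1)))
    (heq : 1 / (qI : ℚ) - (qI : ℚ) / ((qI : ℚ) ^ 2 - qI + 1) +
      ((qI : ℚ) - 1) ^ 2 / 4 * (1 / (X : ℚ) + 1 / (Y : ℚ)) =
      ((qI : ℚ) / (((qI : ℚ) + 1) / 4) - 1) *
        (((qI : ℚ) + 1) * ((qI : ℚ) - 1) / ((qI : ℚ) * ((qI : ℚ) ^ 2 - qI + 1)))) :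
    (2 * X = -(3 ^ m * (qI - 1) * (qI + 1 + 3 * 3 ^ m)) ∧
      2 * Y = 3 ^ m * (qI - 1) * (qI + 1 - 3 * 3 ^ m)) ∨
    (2 * Y = -(3 ^ m * (qI - 1) * (qI + 1 + 3 * 3 ^ m)) ∧
      2 * X = 3 ^ m * (qI - 1) * (qI + 1 - 3 * 3 ^ m)) := by
  have hq : (27 : ℚ) ≤ (qI : ℚ) := by exact_mod_cast c.twentyseven_le
  have hq1 : (qI : ℚ) + 1 ≠ 0 := by linarith
  have hq0 : (qI : ℚ) ≠ 0 := by linarith
  have hqm : (qI : ℚ) - 1 ≠ 0 := by linarith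
  have hg0 : (qI : ℚ) ^ 2 - qI + 1 ≠ 0 := by nlinarith
  have hXq : (X : ℚ) ≠ 0 := Int.cast_ne_zero.2 hX
  have hYq : (Y : ℚ) ≠ 0 := Int.cast_ne_zero.2 hY
  have hs : (X : ℚ) + Y = -((qI : ℚ) * ((qI : ℚ) - 1)) := by exact_mod_cast hsum
  have hprod : 12 * ((X : ℚ) * Y) = -((qI : ℚ) * ((qI : ℚ) - 1) ^ 2 * ((qI : ℚ) ^ 2 - qI + 1)) := by
    have h1 : 1 / (X : ℚ) + 1 / (Y : ℚ) = 12 / (((qI : ℚ) - 1) * ((qI : ℚ) ^ 2 - qI + 1)) := by
      have e := count_base (g := (qI : ℚ) ^ 2 - qI + 1) hq0 hq1 hqm hg0 rfl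
      refine mul_left_cancel₀ (b := 1 / (X : ℚ) + 1 / (Y : ℚ))
        (div_ne_zero (pow_ne_zero 2 hqm) (by norm_num : (4 : ℚ) ≠ 0)) ?_
      linear_combination heq + e
    rw [div_add_div _ _ hXq hYq, div_eq_div_iff (mul_ne_zero hXq hYq) (mul_ne_zero hqm hg0)] at h1
    linear_combination -h1 + ((qI : ℚ) - 1) * ((qI : ℚ) ^ 2 - qI + 1) * hs
  have hprodI : 12 * (X * Y) = -(qI * (qI - 1) ^ 2 * (qI ^ 2 - qI + 1)) := by exact_mod_cast hprod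
  have hn := c.q_eq_n
  have h3 : 3 * ((X - Y) * (X - Y)) =
      3 * ((3 ^ m * (qI - 1) * (qI + 1)) * (3 ^ m * (qI - 1) * (qI + 1))) := by
    linear_combination 3 * (X + Y - qI * (qI - 1)) * hsum - hprodI +
      (qI - 1) ^ 2 * (qI + 1) ^ 2 * hn
  rcases mul_self_eq_mul_self_iff.1 (mul_left_cancel₀ (by norm_num : (3 : ℤ) ≠ 0) h3) with h | h
  · refine Or.inr ⟨?_, ?_⟩
    · linear_combination hsum - h - (qI - 1) * hn
    · linear_combination hsum + h - (qI - 1) * hn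
  · refine Or.inl ⟨?_, ?_⟩
    · linear_combination hsum + h - (qI - 1) * hn
    · linear_combination hsum - h - (qI - 1) * hn

theorem signs {v X : ℤ} {d : ℕ} (hd : 0 < d) (hv : v = 1 ∨ v = -1) (hX : X = v * d) {k : ℤ}
    (hk : 0 < k) (h : 2 * X = k) : v = 1 ∧ 2 * (d : ℤ) = k := by
  rcases hv with rfl | rfl
  · exact ⟨rfl, by rw [← h, hX, one_mul]⟩
  · exfalso
    have : (0 : ℤ) < d := by exact_mod_cast hd
    linarith

theorem signs_neg {v X : ℤ} {d : ℕ} (hd : 0 < d) (hv : v = 1 ∨ v = -1) (hX : X = v * d) {k : ℤ}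
    (hk : 0 < k) (h : 2 * X = -k) : v = -1 ∧ 2 * (d : ℤ) = k := by
  rcases hv with rfl | rfl
  · exfalso
    have : (0 : ℤ) < d := by exact_mod_cast hd
    linarith
  · exact ⟨rfl, by linarith⟩

theorem exists_generic : ∃ (D : Dat E) (s : D.Std), Generic D s c.hyp m := by
  have hyp := c.hyp
  obtain ⟨D⟩ := exists_dat hyp
  obtain ⟨s0⟩ : Nonempty D.Std := by
    rcases D.exists_shape hyp with h | ⟨⟨t⟩⟩
    · exact h
    · exact (t.false hyp).elim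
  obtain ⟨s, μ, hμ, hb⟩ := s0.exists_type_one hyp
  obtain ⟨o⟩ := D.exists_orb hyp hμ
  obtain ⟨-, -, hof, vA, vB, vC, dA, dB, dC⟩ := s.type_one_values hyp hμ o hb
  obtain ⟨-, hPR, hPR2⟩ := s.rel hyp
  obtain ⟨-, E1, E2⟩ := s.eqs hyp
  obtain ⟨-, -, -, sP, sR, sP2, sR2⟩ := s.sign hyp
  have hsdA : sd (D.vZ 1) s.A = qI ^ 3 := by unfold sd; rw [vA, one_mul, dA]
  have hsdB : sd (D.vZ 1) s.B = -(qI * (qI ^ 2 - qI + 1)) := by unfold sd; rw [vB, dB]; ring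
  have hr : (rOf F : ℚ) = ((qI : ℚ) + 1) / 4 := by
    have h : (4 : ℚ) * (rOf F : ℚ) = (qI : ℚ) + 1 := by exact_mod_cast c.four_r
    linarith
  have hq : (27 : ℚ) ≤ (qI : ℚ) := by exact_mod_cast c.twentyseven_le
  have hq0 : (qI : ℚ) ≠ 0 := by linarith
  have hg0 : (qI : ℚ) ^ 2 - qI + 1 ≠ 0 := by nlinarith
  have hAB : (qI : ℚ) ^ 2 / (sd (D.vZ 1) s.A : ℚ) + (qI : ℚ) ^ 2 / (sd (D.vZ 1) s.B : ℚ) =
      1 / (qI : ℚ) - (qI : ℚ) / ((qI : ℚ) ^ 2 - qI + 1) := by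
    rw [hsdA, hsdB]
    push_cast at hq0 hg0 ⊢
    field_simp
    ring
  have hu2 : ((2 * (rOf F : ℤ) + sg F : ℤ) : ℚ) ^ 2 = ((qI : ℚ) - 1) ^ 2 / 4 := by
    rw [c.sg_eq]
    push_cast at hr ⊢
    rw [hr]; ring
  have hK := c.Kq_eq
  rw [hAB, hu2, hK] at E1 E2
  push_cast at hr
  have hsum : sd D.vH1 s.P + sd D.vH1 s.R = -(qI * (qI - 1)) := by
    rw [hPR, hsdA, hsdB]; ring
  have hsum2 : sd D.vH2 s.P2 + sd D.vH2 s.R2 = -(qI * (qI - 1)) := by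
    rw [hPR2, hsdA, hsdB]; ring
  have h1 := c.sorted (sd_ne_zero s.y_ne.1) (sd_ne_zero s.y_ne.2) hsum (by
    push_cast at E1 ⊢; rw [hr] at E1; exact E1)
  have h2 := c.sorted (sd_ne_zero s.w_ne.1) (sd_ne_zero s.w_ne.2) hsum2 (by
    push_cast at E2 ⊢; rw [hr] at E2; exact E2)
  have hqI : (27 : ℤ) ≤ qI := by exact_mod_cast c.twentyseven_le
  have hn0 : (0 : ℤ) < 3 ^ m := by positivity
  have hnle : 3 * (3 : ℤ) ^ m ≤ qI := by exact_mod_cast c.three_n_le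
  have hkp : 0 < (3 : ℤ) ^ m * (qI - 1) * (qI + 1 + 3 * 3 ^ m) :=
    mul_pos (mul_pos hn0 (by linarith)) (by linarith)
  have hkm : 0 < (3 : ℤ) ^ m * (qI - 1) * (qI + 1 - 3 * 3 ^ m) :=
    mul_pos (mul_pos hn0 (by linarith)) (by linarith)
  have horb : ∀ ν : D.c.Cr →* ℂˣ, ν ≠ 1 → ∀ o' : D.Orb hyp ν,
      (o'.f : ℤ) = (qI - 1) * (qI ^ 2 - qI + 1) := fun ν _ o' => by
    rw [show o'.f = o.f from Dat.Orb.f_eq hyp D o' o, hof]
  rcases h1 with ⟨eP, eR⟩ | ⟨eR, eP⟩ <;> rcases h2 with ⟨eP2, eR2⟩ | ⟨eR2, eP2⟩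
  · obtain ⟨a1, a2⟩ := c.signs_neg (deg_pos s.P) sP rfl hkp eP
    obtain ⟨b1, b2⟩ := c.signs (deg_pos s.R) sR rfl hkm eR
    obtain ⟨a3, a4⟩ := c.signs_neg (deg_pos s.P2) sP2 rfl hkp eP2
    obtain ⟨b3, b4⟩ := c.signs (deg_pos s.R2) sR2 rfl hkm eR2
    exact ⟨D, s, vA, vB, vC, dA, dB, dC, horb, a1, b1, a3, b3, a2, b2, a4, b4⟩
  · obtain ⟨a1, a2⟩ := c.signs_neg (deg_pos s.P) sP rfl hkp eP
    obtain ⟨b1, b2⟩ := c.signs (deg_pos s.R) sR rfl hkm eR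
    obtain ⟨a3, a4⟩ := c.signs_neg (deg_pos s.R2) sR2 rfl hkp eR2
    obtain ⟨b3, b4⟩ := c.signs (deg_pos s.P2) sP2 rfl hkm eP2
    exact ⟨D, s.swapW, vA, vB, vC, dA, dB, dC, horb, a1, b1, a3, b3, a2, b2, a4, b4⟩
  · obtain ⟨a1, a2⟩ := c.signs_neg (deg_pos s.R) sR rfl hkp eR
    obtain ⟨b1, b2⟩ := c.signs (deg_pos s.P) sP rfl hkm eP
    obtain ⟨a3, a4⟩ := c.signs_neg (deg_pos s.P2) sP2 rfl hkp eP2
    obtain ⟨b3, b4⟩ := c.signs (deg_pos s.R2) sR2 rfl hkm eR2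
    exact ⟨D, s.swapY, vA, vB, vC, dA, dB, dC, horb, a1, b1, a3, b3, a2, b2, a4, b4⟩
  · obtain ⟨a1, a2⟩ := c.signs_neg (deg_pos s.R) sR rfl hkp eR
    obtain ⟨b1, b2⟩ := c.signs (deg_pos s.P) sP rfl hkm eP
    obtain ⟨a3, a4⟩ := c.signs_neg (deg_pos s.R2) sR2 rfl hkp eR2
    obtain ⟨b3, b4⟩ := c.signs (deg_pos s.P2) sP2 rfl hkm eP2
    exact ⟨D, s.swapY.swapW, vA, vB, vC, dA, dB, dC, horb, a1, b1, a3, b3, a2, b2, a4, b4⟩

/-! ### Values -/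

theorem orderOf_dvd_g (D : Dat E) {ℓ : ℕ} (hℓ : ℓ.Prime) (hg : ℓ ∣ gOf F) {x : J}
    (hx : ℓ ∣ orderOf x) : orderOf x ∣ gOf F := by
  have hy : orderOf (x ^ (orderOf x / ℓ)) = ℓ := orderOf_pow_orderOf_div (orderOf_pos x).ne' hx
  have hmem : x ∈ Subgroup.centralizer ({x ^ (orderOf x / ℓ)} : Set J) :=
    Subgroup.mem_centralizer_singleton_iff.2 ((Commute.refl x).pow_right _).eq
  have h := orderOf_dvd_natCard (⟨x, hmem⟩ : Subgroup.centralizer ({x ^ (orderOf x / ℓ)} : Set J))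
  rw [Subgroup.orderOf_mk] at h
  exact h.trans (c.centralizer_dvd D hℓ hg hy)

theorem vanish {ℓ : ℕ} (hℓ : ℓ.Prime) {x : J} (hx : ℓ ∣ orderOf x) {χ : Cfsg.IrrCharacter J}
    {k : ℕ} (hk : (Nat.card J : ℤ) = (deg χ : ℤ) * k) (hnd : ¬ ℓ ∣ k) : (χ : J → ℂ) x = 0 := by
  haveI := Fact.mk hℓ
  obtain ⟨M, hM⟩ := Blocks.exists_isPModular ℓ hℓ
  haveI := hM.2.1.isPrime
  refine Blocks.eq_zero_of_singular_of_defect_zero hM χ ?_ hx
  have h1 : Cfsg.charDegree (χ : J → ℂ) = deg χ := by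
    have := Blocks.charDegree_cast χ
    rw [deg_spec] at this
    exact_mod_cast this
  have h2 : Nat.card J = deg χ * k := by exact_mod_cast hk
  rw [h1, h2, Nat.mul_div_cancel_left _ (deg_pos χ)]
  exact hnd

theorem card_int : (Nat.card J : ℤ) = qI ^ 3 * ((qI ^ 2 - qI + 1) * ((qI + 1) * (qI - 1))) := by
  rw [c.card_eq]
  push_cast [show 1 ≤ Fintype.card F from Fintype.card_pos, c.cast_g]
  ring

/-- The values of the named characters at `x`. -/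
theorem values {D : Dat E} {s : D.Std} (G : Generic D s c.hyp m) {ℓ : ℕ} (hℓ : ℓ.Prime)
    (hg : ℓ ∣ gOf F) {x : J} (hx : ℓ ∣ orderOf x) :
    (s.A : J → ℂ) x = -1 ∧ (s.B : J → ℂ) x = 0 ∧ (s.C : J → ℂ) x = 0 ∧
      (ℓ ∣ cPlus F m → ((s.P : J → ℂ) x = 0 ∧ (s.R : J → ℂ) x = 1) ∧
        (s.P2 : J → ℂ) x = 0 ∧ (s.R2 : J → ℂ) x = 1) ∧
      (ℓ ∣ cMinus F m → ((s.P : J → ℂ) x = -1 ∧ (s.R : J → ℂ) x = 0) ∧
        (s.P2 : J → ℂ) x = -1 ∧ (s.R2 : J → ℂ) x = 0) := by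
  have hyp := c.hyp
  have hodd : Odd (orderOf x) := c.odd_g.of_dvd_nat (c.orderOf_dvd_g D hℓ hg hx)
  obtain ⟨h2, h3⟩ := c.ne_two_three hℓ hg
  have hnot : ¬ ℓ ∣ Fintype.card F * ((Fintype.card F + 1) * (Fintype.card F - 1)) :=
    fun h => c.not_dvd_g hℓ h hg
  have hq : ¬ ℓ ∣ Fintype.card F := fun h => hnot (h.mul_right _)
  have hpm : ¬ ℓ ∣ (Fintype.card F + 1) * (Fintype.card F - 1) := fun h => hnot (h.mul_left _)
  have hq1 : 1 ≤ Fintype.card F := Fintype.card_pos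
  have hB : (s.B : J → ℂ) x = 0 := by
    refine c.vanish hℓ hx (k := Fintype.card F ^ 2 * ((Fintype.card F + 1) * (Fintype.card F - 1)))
      ?_ fun h => (hℓ.dvd_mul.1 h).elim (fun h => hq (hℓ.dvd_of_dvd_pow h)) hpm
    rw [c.card_int, G.dB]; push_cast [hq1]; ring
  have hC : (s.C : J → ℂ) x = 0 := by
    refine c.vanish hℓ hx (k := Fintype.card F ^ 3 * ((Fintype.card F + 1) * (Fintype.card F - 1)))
      ?_ fun h => (hℓ.dvd_mul.1 h).elim (fun h => hq (hℓ.dvd_of_dvd_pow h)) hpm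
    rw [c.card_int, G.dC]; push_cast [hq1]; ring
  have e1 := s.sum_x hyp (fun χ : Cfsg.IrrCharacter J => (χ : J → ℂ) x)
  rw [Finset.sum_congr rfl fun χ _ => mul_comm _ _, D.col_vZ 1 x hodd, G.vA, G.vB, G.vC, c.sg_eq,
    hB, hC, show (trivC J : J → ℂ) x = 1 from rfl] at e1
  push_cast at e1
  have hA : (s.A : J → ℂ) x = -1 := by linear_combination -e1
  have e2 := s.sum_y hyp (fun χ : Cfsg.IrrCharacter J => (χ : J → ℂ) x)
  rw [Finset.sum_congr rfl fun χ _ => mul_comm _ _, D.col_vH1 hyp x hodd, G.vA, G.vB, G.vP, G.vR,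
    hA, hB] at e2
  have e3 := s.sum_w hyp (fun χ : Cfsg.IrrCharacter J => (χ : J → ℂ) x)
  rw [Finset.sum_congr rfl fun χ _ => mul_comm _ _, D.col_vH2 hyp x hodd, G.vA, G.vB, G.vP2, G.vR2,
    hA, hB] at e3
  push_cast at e2 e3
  have hfac : ∀ e : ℕ, ¬ ℓ ∣ e →
      ¬ ℓ ∣ 6 * 3 ^ m * Fintype.card F ^ 2 * (Fintype.card F + 1) * e := by
    intro e he h
    rcases hℓ.dvd_mul.1 h with h | h
    · rcases hℓ.dvd_mul.1 h with h | h
      · rcases hℓ.dvd_mul.1 h with h | h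
        · rcases hℓ.dvd_mul.1 h with h | h
          · rcases (Nat.Prime.dvd_mul hℓ).1 (show ℓ ∣ 2 * 3 from h) with h | h
            · exact h2 ((Nat.prime_dvd_prime_iff_eq hℓ Nat.prime_two).1 h)
            · exact h3 ((Nat.prime_dvd_prime_iff_eq hℓ Nat.prime_three).1 h)
          · exact h3 ((Nat.prime_dvd_prime_iff_eq hℓ Nat.prime_three).1 (hℓ.dvd_of_dvd_pow h))
        · exact hq (hℓ.dvd_of_dvd_pow h)
      · exact hpm (h.mul_right _)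
    · exact he h
  have hpm' : (cPlus F m : ℤ) = qI + 1 + 3 * 3 ^ m := by unfold cPlus; push_cast; ring
  refine ⟨hA, hB, hC, fun hc => ?_, fun hc => ?_⟩
  · have hn : ¬ ℓ ∣ cMinus F m := fun h => c.not_dvd_both hℓ hg ⟨hc, h⟩
    have hzero : ∀ χ : Cfsg.IrrCharacter J,
        2 * (deg χ : ℤ) = 3 ^ m * (qI - 1) * (qI + 1 + 3 * 3 ^ m) → (χ : J → ℂ) x = 0 := by
      intro χ hd
      refine c.vanish hℓ hx (k := 6 * 3 ^ m * Fintype.card F ^ 2 * (Fintype.card F + 1) *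
        cMinus F m) ?_ (hfac _ hn)
      rw [c.card_int]
      push_cast [c.cast_cMinus]
      linear_combination (-3 * 3 ^ m * qI ^ 2 * (qI + 1) * (qI + 1 - 3 * 3 ^ m)) * hd +
        (qI ^ 2 * (qI + 1) * (qI - 1) *
          ((qI + 1) ^ 2 - 3 * (qI + 3 * ((3 : ℤ) ^ m * 3 ^ m)))) * c.q_eq_n
    have hP := hzero s.P G.dP
    have hP2 := hzero s.P2 G.dP2
    rw [hP] at e2
    rw [hP2] at e3
    exact ⟨⟨hP, by linear_combination -e2⟩, hP2, by linear_combination -e3⟩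
  · have hn : ¬ ℓ ∣ cPlus F m := fun h => c.not_dvd_both hℓ hg ⟨h, hc⟩
    have hzero : ∀ χ : Cfsg.IrrCharacter J,
        2 * (deg χ : ℤ) = 3 ^ m * (qI - 1) * (qI + 1 - 3 * 3 ^ m) → (χ : J → ℂ) x = 0 := by
      intro χ hd
      refine c.vanish hℓ hx (k := 6 * 3 ^ m * Fintype.card F ^ 2 * (Fintype.card F + 1) *
        cPlus F m) ?_ (hfac _ hn)
      rw [c.card_int]
      push_cast [hpm']
      linear_combination (-3 * 3 ^ m * qI ^ 2 * (qI + 1) * (qI + 1 + 3 * 3 ^ m)) * hd +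
        (qI ^ 2 * (qI + 1) * (qI - 1) *
          ((qI + 1) ^ 2 - 3 * (qI + 3 * ((3 : ℤ) ^ m * 3 ^ m)))) * c.q_eq_n
    have hR := hzero s.R G.dR
    have hR2 := hzero s.R2 G.dR2
    rw [hR] at e2
    rw [hR2] at e3
    exact ⟨⟨by linear_combination e2, hR⟩, by linear_combination e3, hR2⟩

/-- Characters other than the named ones contribute nothing to the count of pairs. -/
theorem mul_Tz_eq_zero {D : Dat E} {s : D.Std} (G : Generic D s c.hyp m) {ℓ : ℕ} (hℓ : ℓ.Prime)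
    (hg : ℓ ∣ gOf F) {x : J} (hx : ℓ ∣ orderOf x) (χ : Cfsg.IrrCharacter J)
    (hχ : χ ∉ [trivC J, s.A, s.B, s.C, s.P, s.R, s.P2, s.R2]) :
    (χ : J → ℂ) x = 0 ∨ Tz E χ = 0 := by
  classical
  have hyp := c.hyp
  haveI := D.c.isCyclic_Cr
  haveI := isCyclic_tor D.htr₁
  have hdvd := c.orderOf_dvd_g D hℓ hg hx
  have hodd : Odd (orderOf x) := c.odd_g.of_dvd_nat hdvd
  simp only [List.mem_cons, List.not_mem_nil, or_false, not_or] at hχ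
  obtain ⟨n0, nA, nB, nC, nP, nR, nP2, nR2⟩ := hχ
  have hx1 : x ≠ 1 := fun e => by rw [e, orderOf_one] at hx; exact hℓ.ne_one (Nat.dvd_one.1 hx)
  by_cases hP : ∃ ν, ν ≠ 1 ∧ D.vP ν χ ≠ 0
  · obtain ⟨ν, hν, hne⟩ := hP
    obtain ⟨o⟩ := D.exists_orb hyp hν
    have hR : χ ∈ o.R := by
      by_contra h
      exact hne (o.outside χ h).1
    left
    refine c.vanish hℓ hx (k := Fintype.card F ^ 3 * (Fintype.card F + 1)) ?_ fun h => ?_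
    · rw [o.hdeg χ hR, G.orbit ν hν o, c.card_int]; push_cast; ring
    · refine c.not_dvd_g hℓ ?_ hg
      rcases hℓ.dvd_mul.1 h with h | h
      · exact dvd_mul_of_dvd_left (hℓ.dvd_of_dvd_pow h) _
      · exact dvd_mul_of_dvd_right (h.mul_right _) _
  push Not at hP
  by_cases hZ : ∃ τ, τ ≠ 1 ∧ D.vZ τ χ ≠ 0
  · obtain ⟨τ, hτ, hne⟩ := hZ
    obtain ⟨hA, hB, -⟩ := c.values G hℓ hg hx
    refine Or.inl (c.eq_zero_of_vZ D s G.vA G.vB G.vC G.dB hodd (fun a ha ha1 hconj => ?_) hA hB hτ hne)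
    obtain ⟨k, hk⟩ := isConj_iff.1 hconj
    have ho : orderOf a = orderOf x := by
      rw [← orderOf_injective E.ι E.inj, ← hk, orderOf_conj']
    have h1 : orderOf x ∣ uOf F := ho ▸ orderOf_dvd_of_pow_eq_one (c.pow_u D ha)
    refine hℓ.ne_one (Nat.eq_one_of_dvd_coprimes c.coprime_cent (hg) ?_)
    exact dvd_mul_of_dvd_right (dvd_mul_of_dvd_right ((hx.trans h1).trans
      ⟨2, by have := c.two_u; omega⟩) _) _
  push Not at hZ
  right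
  have hPlain : D.Plain χ := ⟨hP, hZ⟩
  rw [D.plain_Tz hyp hPlain, s.x_zero χ n0 nA nB nC, s.y_zero χ nA nB nP nR,
    s.w_zero χ nA nB nP2 nR2]
  ring

/-- The number of involutions inverting `x`. -/
theorem pairs_eq {ℓ : ℕ} (hℓ : ℓ.Prime) (hℓg : ℓ ∣ gOf F) {x : J}
    (hx : ℓ ∣ orderOf x) :
    (ℓ ∣ cPlus F m ∧ pairs x = cPlus F m) ∨ (ℓ ∣ cMinus F m ∧ pairs x = cMinus F m) := by
  classical
  have hyp := c.hyp
  obtain ⟨D, s, G⟩ := c.exists_generic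
  obtain ⟨hA, hB, hC, hplus, hminus⟩ := c.values G hℓ hℓg hx
  obtain ⟨tA, tB, tC, tP, tR, tP2, tR2⟩ := s.hT hyp
  rw [G.vA] at tA
  rw [G.vP] at tP
  rw [G.vR] at tR
  rw [G.vP2] at tP2
  rw [G.vR2] at tR2
  have h := sum_col_Tz (E := E) hyp x
  rw [list_sum_eq _ s.nodup _ fun χ hχ => by
    rcases c.mul_Tz_eq_zero G hℓ hℓg hx χ hχ with e | e <;> rw [e] <;> simp] at h
  simp only [List.map_cons, List.map_nil, List.sum_cons, List.sum_nil, hA, hB, hC, Tz_trivC,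
    tA, tP, tR, tP2, tR2, deg_trivC, show (trivC J : J → ℂ) x = 1 from rfl, c.sg_eq, zero_mul] at h
  have hK := c.Kq_eq
  have hqC : (qI : ℂ) ≠ 0 := by exact_mod_cast (Fintype.card_ne_zero : Fintype.card F ≠ 0)
  have h27 : (27 : ℤ) ≤ qI := by exact_mod_cast c.twentyseven_le
  have hnle : 3 * (3 : ℤ) ^ m ≤ qI := by exact_mod_cast c.three_n_le
  have hn0 : (0 : ℤ) < 3 ^ m := by positivity
  have hp1 : (qI : ℂ) + 1 ≠ 0 := by exact_mod_cast (show qI + 1 ≠ 0 by omega)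
  have hm1 : (qI : ℂ) - 1 ≠ 0 := by exact_mod_cast (show qI - 1 ≠ 0 by omega)
  have hnC : (3 : ℂ) ^ m ≠ 0 := pow_ne_zero _ (by norm_num)
  have hcp : (qI : ℂ) + 1 + 3 * 3 ^ m ≠ 0 := by
    exact_mod_cast (show qI + 1 + 3 * 3 ^ m ≠ 0 by omega)
  have hcm : (qI : ℂ) + 1 - 3 * 3 ^ m ≠ 0 := by
    exact_mod_cast (show qI + 1 - 3 * 3 ^ m ≠ 0 by omega)
  have hqn : (qI : ℂ) = 3 * ((3 : ℂ) ^ m * 3 ^ m) := by exact_mod_cast c.q_eq_n
  have hgC : (qI : ℂ) ^ 2 - qI + 1 = ((qI : ℂ) + 1 + 3 * 3 ^ m) * ((qI : ℂ) + 1 - 3 * 3 ^ m) := by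
    linear_combination (-3 : ℂ) * hqn
  have hr : (rOf F : ℂ) = ((qI : ℂ) + 1) / 4 := by
    have h4 : (4 : ℂ) * (rOf F : ℂ) = (qI : ℂ) + 1 := by exact_mod_cast c.four_r
    linear_combination h4 / 4
  have hdA : (deg s.A : ℂ) = (qI : ℂ) ^ 3 := by exact_mod_cast G.dA
  have hdP : (deg s.P : ℂ) = (3 : ℂ) ^ m * ((qI : ℂ) - 1) * ((qI : ℂ) + 1 + 3 * 3 ^ m) / 2 := by
    have h2 : (2 : ℂ) * (deg s.P : ℂ) =
        (3 : ℂ) ^ m * ((qI : ℂ) - 1) * ((qI : ℂ) + 1 + 3 * 3 ^ m) := by exact_mod_cast G.dP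
    push_cast at h2
    linear_combination h2 / 2
  have hdR : (deg s.R : ℂ) = (3 : ℂ) ^ m * ((qI : ℂ) - 1) * ((qI : ℂ) + 1 - 3 * 3 ^ m) / 2 := by
    have h2 : (2 : ℂ) * (deg s.R : ℂ) =
        (3 : ℂ) ^ m * ((qI : ℂ) - 1) * ((qI : ℂ) + 1 - 3 * 3 ^ m) := by exact_mod_cast G.dR
    push_cast at h2
    linear_combination h2 / 2
  have hdP2 : (deg s.P2 : ℂ) = (deg s.P : ℂ) := by
    have : deg s.P2 = deg s.P := by
      have := G.dP2.trans G.dP.symm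
      omega
    rw [this]
  have hdR2 : (deg s.R2 : ℂ) = (deg s.R : ℂ) := by
    have : deg s.R2 = deg s.R := by
      have := G.dR2.trans G.dR.symm
      omega
    rw [this]
  rw [hK, hdP2, hdR2] at h
  push_cast at h
  simp only [Int.cast_natCast] at hr hdA hdP hdR hgC hqn hcp hcm hqC hp1 hm1
  rw [hr, hdA, hdP, hdR, hgC] at h
  have hdvd : ℓ ∣ cPlus F m ∨ ℓ ∣ cMinus F m := hℓ.dvd_mul.1 (c.cPlus_mul_cMinus ▸ hℓg)
  rcases hdvd with hc | hc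
  · left
    obtain ⟨⟨vP, vR⟩, vP2, vR2⟩ := hplus hc
    rw [vP, vR, vP2, vR2] at h
    refine ⟨hc, ?_⟩
    have hgoal : (pairs x : ℂ) = (cPlus F m : ℂ) := by
      unfold cPlus
      push_cast
      exact count_plus hnC hqn hp1 hm1 hcp hcm h
    exact_mod_cast hgoal
  · right
    obtain ⟨⟨vP, vR⟩, vP2, vR2⟩ := hminus hc
    rw [vP, vR, vP2, vR2] at h
    refine ⟨hc, ?_⟩
    have hgoal : (pairs x : ℂ) = ((cMinus F m : ℤ) : ℂ) := by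
      rw [c.cast_cMinus]
      push_cast
      exact count_minus hnC hqn hp1 hm1 hcp hcm h
    exact_mod_cast hgoal

end TorusCtx

end CfsgLib.JankoThompson
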